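import Cfsg.Agent.Lib.TwoGen.Basic
import Cfsg.Agent.S3081
import Cfsg.Agent.Lib.Local.GlaubermanComplement

/-!
# Two generated subgroups solvable: the Sylow `p`-subgroup is elementary abelian

In a simple group with all proper and all two generated subgroups solvable, the normalizer of
`Ω₁(Z(J(P)))` controls fusion, so this subgroup is strongly closed; `p`-stability and the closure
trick then show that it is all of `P`.
-/

set_option autoImplicit false
set_option linter.style.haveILetI false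

namespace Cfsg.Lib.TwoGen

open Subgroup

universe u

/-- A minimal non-solvable group all of whose two generated subgroups are solvable. -/
structure Min (G : Type u) [Group G] : Prop where
  simple : IsSimpleGroup G
  nonsol : ¬ Group.IsSolvable G
  pair : ∀ a b : G, Group.IsSolvable (closure ({a, b} : Set G))
  proper : ∀ H : Subgroup G, H ≠ ⊤ → Group.IsSolvable H

variable {G : Type u} [Group G] [Finite G] {p : ℕ} [hp : Fact p.Prime]

omit [Finite G] in
theorem Min.pair_ne_top (hM : Min G) (a b : G) : closure ({a, b} : Set G) ≠ ⊤ := fun h => by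
  have h2 := hM.pair a b
  rw [h] at h2
  exact hM.nonsol (Group.isSolvable_of_surjective (f := (topEquiv (G := G)).toMonoidHom)
    (topEquiv (G := G)).surjective)

omit [Finite G] in
theorem Min.center_eq_bot (hM : Min G) : center G = ⊥ := by
  haveI := hM.simple
  refine (IsSimpleGroup.eq_bot_or_eq_top_of_normal (center G) inferInstance).resolve_right
    fun h => hM.nonsol ?_
  exact Group.isSolvable_of_comm fun a b => mem_center_iff.1 (h ▸ mem_top b) a

theorem Min.not_involves_qd (hM : Min G) (h5 : 5 ≤ p) : ¬ Cfsg.Involves ↥(Cfsg.qd p) G := by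
  intro h
  obtain ⟨K, f, hf⟩ := Cfsg.Lib.FusionSys.involves_iff_exists_hom.1
    (Cfsg.Lib.Local.SL2Involved.involves_SL2_of_qd h)
  by_cases hK : K = ⊤
  · haveI := hM.simple
    let φ : G →* Matrix.SpecialLinearGroup (Fin 2) (ZMod p) :=
      f.comp ((topEquiv (G := G)).symm.trans (MulEquiv.subgroupCongr hK.symm)).toMonoidHom
    have hφ : Function.Surjective φ := hf.comp (MulEquiv.surjective _)
    let z : Matrix.SpecialLinearGroup (Fin 2) (ZMod p) := -1
    have hz1 : z ≠ 1 := fun h => by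
      have h2 := congrArg (fun A : Matrix.SpecialLinearGroup (Fin 2) (ZMod p) =>
        (A : Matrix (Fin 2) (Fin 2) (ZMod p)) 0 0) h
      simp [z] at h2
      haveI : Fact (2 < p) := ⟨by omega⟩
      exact ZMod.neg_one_ne_one h2
    obtain ⟨w, hw⟩ := hφ z
    rcases IsSimpleGroup.eq_bot_or_eq_top_of_normal φ.ker inferInstance with h' | h'
    · have hinj : Function.Injective φ := (MonoidHom.ker_eq_bot_iff φ).1 h'
      have hwc : w ∈ center G := mem_center_iff.2 fun g => hinj (by simp [map_mul, hw, z])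
      rw [hM.center_eq_bot, mem_bot] at hwc
      exact hz1 (by rw [← hw, hwc, map_one])
    · exact hz1 (by rw [← hw, MonoidHom.mem_ker.1 (h' ▸ mem_top w : w ∈ φ.ker)])
  · haveI := hM.proper K hK
    exact Cfsg.Lib.Local.SL2Involved.not_isPSolvable_SL2 (p := p) h5
      (Cfsg.Lib.Core.isPSolvable_of_surjective f hf (Cfsg.Lib.Core.isPSolvable_of_isSolvable (G := K)))

/-- The subgroup `Ω₁(Z(J(P)))`. -/
def zjOmega (P : Sylow p G) : Subgroup G :=
  Cfsg.omegaOne p (Cfsg.centerThompsonOf p (P : Subgroup G))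

omit [Finite G] hp in
theorem zjOmega_le_center (P : Sylow p G) :
    zjOmega P ≤ Cfsg.centerThompsonOf p (P : Subgroup G) := by
  rw [zjOmega, Cfsg.omegaOne, closure_le]
  exact fun x hx => hx.1

omit [Finite G] hp in
theorem zjOmega_le (P : Sylow p G) : zjOmega P ≤ (P : Subgroup G) :=
  (zjOmega_le_center P).trans (inf_le_left.trans (map_subtype_le _))

omit [Finite G] hp in
theorem zjOmega_comm (P : Sylow p G) {x y : G} (hx : x ∈ zjOmega P) (hy : y ∈ zjOmega P) :
    x * y = y * x :=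
  (mem_centralizer_iff.1 (zjOmega_le_center P hy).2) x (zjOmega_le_center P hx).1

omit [Finite G] hp in
theorem zjOmega_pow (P : Sylow p G) {x : G} (hx : x ∈ zjOmega P) : x ^ p = 1 := by
  induction hx using closure_induction with
  | mem y hy => exact hy.2
  | one => exact one_pow _
  | mul y z hy hz h1 h2 => rw [Commute.mul_pow (zjOmega_comm P hy hz), h1, h2, one_mul]
  | inv y _ h => rw [inv_pow, h, inv_one]

theorem zjOmega_ne_bot (P : Sylow p G) (hP : (P : Subgroup G) ≠ ⊥) : zjOmega P ≠ ⊥ := by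
  have hne : Cfsg.centerThompsonOf p (P : Subgroup G) ≠ ⊥ :=
    Cfsg.Lib.Local.GlaubermanZJ.centerThompsonOf_ne_bot P.2 hP
  obtain ⟨z, hz, hz1⟩ := (bot_or_exists_ne_one _).resolve_left hne
  obtain ⟨k, hk⟩ := (pEl_of_mem P.2 ((inf_le_left.trans (map_subtype_le _) :
    Cfsg.centerThompsonOf p (P : Subgroup G) ≤ P) hz) : PEl p z)
  intro hbot
  have key : ∀ k : ℕ, ∀ z ∈ Cfsg.centerThompsonOf p (P : Subgroup G), z ^ p ^ k = 1 → z = 1 := by
    intro k
    induction k with
    | zero => intro z _ h; simpa using h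
    | succ k ih =>
      intro z hz h
      have h1 : z ^ p = 1 := ih _ (pow_mem hz p) (by rw [← pow_mul, ← pow_succ']; exact h)
      have h2 : z ∈ zjOmega P := subset_closure ⟨hz, h1⟩
      rwa [hbot, mem_bot] at h2
  exact hz1 (key k z hz hk)

/-- The nontrivial elements with a conjugate in `Ω₁(Z(J(P)))`. -/
def special (P : Sylow p G) : Set G := {x | x ≠ 1 ∧ ∃ g : G, g * x * g⁻¹ ∈ zjOmega P}

omit [Finite G] hp in
theorem special_conj (P : Sylow p G) {x : G} (hx : x ∈ special P) (g : G) :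
    g * x * g⁻¹ ∈ special P := by
  obtain ⟨h1, h, hh⟩ := hx
  refine ⟨conj_ne_one h1 g, h * g⁻¹, ?_⟩
  simpa [mul_assoc] using hh
where
  conj_ne_one {x : G} (h1 : x ≠ 1) (g : G) : g * x * g⁻¹ ≠ 1 := fun h =>
    h1 (by simpa [mul_inv_eq_one] using h)

omit [Finite G] hp in
theorem special_pEl (P : Sylow p G) {x : G} (hx : x ∈ special P) : PEl p x := by
  obtain ⟨-, h, hh⟩ := hx
  simpa [mul_assoc] using (pEl_of_mem P.2 (zjOmega_le P hh)).conj h⁻¹

theorem zjOmega_strongly_closed (hM : Min G) (h5 : 5 ≤ p) (P : Sylow p G) {x : G}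
    (hx : x ∈ zjOmega P) (g : G) (hg : g * x * g⁻¹ ∈ (P : Subgroup G)) :
    g * x * g⁻¹ ∈ zjOmega P := by
  have hc := (Cfsg.Agent.S3081.result (by omega) P (P : Subgroup G)
    ⟨le_rfl, fun _ _ _ h => h⟩ (hM.not_involves_qd h5)).2 {x}
    (Set.singleton_subset_iff.2 (zjOmega_le P hx))
  obtain ⟨n, hn, heq⟩ := hc.2 g (by rintro _ ⟨a, rfl, rfl⟩; exact hg)
  rw [heq x rfl]
  exact ((mem_normalizer_iff.1 hn) x).1 hx

theorem sylow_le_normalizer_zjOmega (hM : Min G) (h5 : 5 ≤ p) (P : Sylow p G) :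
    (P : Subgroup G) ≤ normalizer (zjOmega P : Set G) := fun y hy =>
  mem_normalizer_fintype fun _ hx =>
    zjOmega_strongly_closed hM h5 P hx y (mul_mem (mul_mem hy (zjOmega_le P hx)) (inv_mem hy))

set_option maxHeartbeats 1000000 in
/-- In a solvable subgroup the special elements generate a normal subgroup all of whose
`p`-elements are special or trivial. -/
theorem exists_normal_special (hM : Min G) (h5 : 5 ≤ p) (P : Sylow p G) (X : Subgroup G)
    [Group.IsSolvable X] :
    ∃ L : Subgroup X, L.Normal ∧ (∀ x : X, (x : G) ∈ special P → x ∈ L) ∧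
      ∀ x ∈ L, PEl p x → x = 1 ∨ (x : G) ∈ special P := by
  classical
  obtain ⟨Q⟩ : Nonempty (Sylow p X) := inferInstance
  -- for each Sylow subgroup, the conjugate of `E` in a Sylow subgroup above it
  have habove : ∀ R : Sylow p X, ∃ h : G,
      (∀ r ∈ (R : Subgroup X), h * (r : G) * h⁻¹ ∈ (P : Subgroup G)) := by
    intro R
    obtain ⟨T, hT⟩ := (R.2.map X.subtype).exists_le_sylow
    obtain ⟨h, hh⟩ := MulAction.exists_smul_eq G T P
    exact ⟨h, fun r hr => by
      rw [← hh]
      exact ⟨r, hT (mem_map_of_mem _ hr), rfl⟩⟩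
  choose h hh using habove
  let B : Sylow p X → Subgroup X := fun R =>
    (R : Subgroup X) ⊓ ((zjOmega P).comap (MulAut.conj (h R)).toMonoidHom).comap X.subtype
  have hBmem : ∀ (R : Sylow p X) (x : X), x ∈ B R ↔ x ∈ (R : Subgroup X) ∧ h R * (x : G) * (h R)⁻¹ ∈ zjOmega P :=
    fun R x => by simp [B, mem_subgroupOf, mem_comap]
  have hBspecial : ∀ (R : Sylow p X) (x : X), x ∈ B R → x = 1 ∨ (x : G) ∈ special P := fun R x hx =>
    or_iff_not_imp_left.2 fun h1 => ⟨fun hc => h1 (Subtype.ext hc), h R, ((hBmem R x).1 hx).2⟩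
  have hBcomm : ∀ R : Sylow p X, IsMulCommutative (B R) := fun R => ⟨⟨fun a b => Subtype.ext (Subtype.ext (by
    have h1 := zjOmega_comm P ((hBmem R a).1 a.2).2 ((hBmem R b).1 b.2).2
    have h2 := congrArg (fun z => (h R)⁻¹ * z * h R) h1
    simpa [mul_assoc] using h2))⟩⟩
  have hBnorm : ∀ R : Sylow p X, (R : Subgroup X) ≤ normalizer (B R : Set X) := fun R y hy =>
    mem_normalizer_fintype fun x hx => by
      rw [SetLike.mem_coe, hBmem] at hx ⊢
      refine ⟨mul_mem (mul_mem hy hx.1) (inv_mem hy), ?_⟩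
      have h1 := ((mem_normalizer_iff.1 (sylow_le_normalizer_zjOmega hM h5 P (hh R y hy)))
        (h R * (x : G) * (h R)⁻¹)).1 hx.2
      simpa [mul_assoc] using h1
  have hDB : ∀ (R : Sylow p X) (x : X), x ∈ (R : Subgroup X) → (x : G) ∈ special P → x ∈ B R := by
    intro R x hxR hx
    obtain ⟨-, g, hg⟩ := hx
    refine (hBmem R x).2 ⟨hxR, ?_⟩
    have h1 := zjOmega_strongly_closed hM h5 P hg (h R * g⁻¹)
      (by simpa [mul_assoc] using hh R x hxR)
    simpa [mul_assoc] using h1
  set K := Cfsg.pPrimeCore p X with hK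
  set L := closure {x : X | (x : G) ∈ special P} with hL
  have hLn : L.Normal := ⟨fun n hn g => by
    have h := mem_map_of_mem (MulAut.conj g).toMonoidHom hn
    rw [hL, MonoidHom.map_closure] at h
    refine Subgroup.closure_mono ?_ h
    rintro _ ⟨t, ht, rfl⟩
    exact special_conj P ht (g : G)⟩
  have hgen : L ≤ K ⊔ B Q := by
    rw [hL, closure_le]
    intro x hx
    obtain ⟨R, hR⟩ := (pEl_coe.1 (special_pEl P hx)).exists_sylow
    have h1 : x ∈ K ⊔ (Q : Subgroup X) :=
      mem_sup_of_mem_abelian h5 (hBcomm R) inf_le_left (hBnorm R) Q (hDB R x hR hx)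
    obtain ⟨k, hk, hkx⟩ := exists_conj_mem_of_mem_sup K Q (pEl_coe.1 (special_pEl P hx)) h1
    have h2 : k * x * k⁻¹ ∈ B Q := hDB Q _ hkx (special_conj P hx (k : G))
    have := mul_mem (mul_mem (inv_mem (mem_sup_left (T := B Q) hk)) (mem_sup_right (S := K) h2))
      (mem_sup_left (T := B Q) hk)
    simpa [mul_assoc] using this
  refine ⟨L, hLn, fun x hx => subset_closure hx, fun x hx hxp => ?_⟩
  obtain ⟨k, hk, b, hb, hkb⟩ := mem_sup_of_normal_left.1 (hgen hx)
  obtain ⟨k', hk', hq⟩ := exists_conj_mem_of_mem_sup K Q hxp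
    ((sup_le_sup_left inf_le_left K : K ⊔ B Q ≤ K ⊔ Q) (hgen hx))
  -- `k' x k'⁻¹` lies in `Q` and agrees with `b` modulo `K`
  have heq : k' * x * k'⁻¹ = b := by
    rw [← mul_inv_eq_one]
    refine (pEl_of_mem Q.2 (mul_mem hq (inv_mem (hb.1)))).eq_one_of_mem
      (Cfsg.Lib.Core.pPrimeCore_coprime p X) ?_
    rw [← hkb, show k' * (k * b) * k'⁻¹ * b⁻¹ = k' * k * (b * k'⁻¹ * b⁻¹) by group]
    exact mul_mem (mul_mem hk' hk)
      (Subgroup.Normal.conj_mem inferInstance _ (inv_mem hk') b)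
  rcases hBspecial Q b hb with h1 | h1
  · exact Or.inl (by rw [h1] at heq; simpa [mul_inv_eq_one] using heq)
  · refine Or.inr ?_
    have h2 := special_conj P h1 ((k' : G)⁻¹)
    rw [← heq] at h2
    simpa [mul_assoc] using h2

/-- The Sylow `p`-subgroups are elementary abelian. -/
theorem sylow_elementary (hM : Min G) (h5 : 5 ≤ p) (P : Sylow p G) :
    (∀ x ∈ (P : Subgroup G), x ^ p = 1) ∧
      ∀ x ∈ (P : Subgroup G), ∀ y ∈ (P : Subgroup G), x * y = y * x := by
  haveI := hM.simple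
  by_cases hP : (P : Subgroup G) = ⊥
  · simp only [hP, mem_bot]
    exact ⟨fun x hx => by rw [hx, one_pow], fun x hx y hy => by rw [hx, hy]⟩
  suffices hle : (P : Subgroup G) ≤ zjOmega P from
    ⟨fun x hx => zjOmega_pow P (hle hx), fun x hx y hy => zjOmega_comm P (hle hx) (hle hy)⟩
  obtain ⟨e, he, he1⟩ := (bot_or_exists_ne_one _).resolve_left (zjOmega_ne_bot P hP)
  intro x hx
  by_cases hx1 : x = 1
  · rw [hx1]; exact one_mem _
  by_contra hxE
  have hxs : x ∉ special P := fun ⟨_, g, hg⟩ => hxE <| by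
    have h := zjOmega_strongly_closed hM h5 P hg g⁻¹ (by simpa [mul_assoc] using hx)
    simpa [mul_assoc] using h
  refine closure_trick (T := special P)
    (S := {g : G | ∃ u ∈ zpowers g, PEl p u ∧ u ≠ 1 ∧ u ∉ special P})
    (fun t ht g => special_conj P ht g) (t₀ := e) ⟨he1, 1, by simpa using he⟩ he1
    (s₀ := x) ⟨x, mem_zpowers x, pEl_of_mem P.2 hx, hx1, hxs⟩ ?_ ?_
  · rintro ⟨u, hu, -, hu1, -⟩
    rw [zpowers_one_eq_bot, mem_bot] at hu
    exact hu1 hu
  · rintro b hb g ⟨u, hu, hup, hu1, hus⟩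
    by_contra hnot
    set X := closure ({b, g} : Set G) with hX
    haveI := hM.pair b g
    obtain ⟨L, hLn, hDL, hLD⟩ := exists_normal_special hM h5 P X
    have hbX : b ∈ X := subset_closure (Set.mem_insert _ _)
    have hgX : g ∈ X := subset_closure (Set.mem_insert_of_mem _ rfl)
    have huX : u ∈ X := (zpowers_le.2 hgX) hu
    have hagree : ((⟨g, hgX⟩ : X) : X ⧸ L) = ((⟨b * g, mul_mem hbX hgX⟩ : X) : X ⧸ L) := by
      rw [show (⟨b * g, mul_mem hbX hgX⟩ : X) = ⟨b, hbX⟩ * ⟨g, hgX⟩ from rfl, QuotientGroup.mk_mul,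
        (QuotientGroup.eq_one_iff _).2 (hDL ⟨b, hbX⟩ hb), one_mul]
    have huL : (⟨u, huX⟩ : X) ∈ L := by
      refine mem_of_agree (p := p) hagree (fun v hv hvp => ?_) ?_ (pEl_coe.1 hup)
      · by_contra hvL
        refine hnot ⟨(v : G), ?_, pEl_coe.2 hvp, fun h => hvL ?_, fun h => hvL (hDL v h)⟩
        · obtain ⟨j, rfl⟩ := hv
          exact ⟨j, by simp⟩
        · rw [show v = 1 from Subtype.ext h]; exact one_mem _
      · obtain ⟨j, hj⟩ := hu
        exact ⟨j, Subtype.ext (by simpa using hj)⟩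
    rcases hLD _ huL (pEl_coe.1 hup) with h | h
    · exact hu1 (congrArg Subtype.val h)
    · exact hus h

end Cfsg.Lib.TwoGen
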