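import Mathlib
import Cfsg.Agent.Lib.Core.PSolvable
import Cfsg.Agent.Lib.Core.Cores
import Cfsg.Agent.Lib.Local.OddStability
import Cfsg.Agent.Lib.Local.QdInvolved
import Cfsg.Agent.Lib.Local.SL2Involved

/-!
# Groups all of whose two generated subgroups are solvable: general lemmas

`p`-elements, a closure trick for simple groups, and the structure of solvable groups with
abelian normal sections at a prime `p ≥ 5`.
-/

set_option autoImplicit false
set_option linter.style.haveILetI false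

namespace Cfsg.Lib.TwoGen

open Subgroup

universe u

variable {G : Type u} [Group G] {p : ℕ}

/-- `x` is an element of `p`-power order. -/
def PEl (p : ℕ) (x : G) : Prop := ∃ k, x ^ p ^ k = 1

theorem pEl_one : PEl p (1 : G) := ⟨0, one_pow _⟩

theorem PEl.map {H : Type*} [Group H] (f : G →* H) {x : G} (h : PEl p x) : PEl p (f x) := by
  obtain ⟨k, hk⟩ := h
  exact ⟨k, by rw [← map_pow, hk, map_one]⟩

theorem pEl_coe {X : Subgroup G} {x : X} : PEl p (x : G) ↔ PEl p x := by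
  constructor
  · rintro ⟨k, hk⟩
    exact ⟨k, Subtype.ext (by simpa using hk)⟩
  · exact fun h => h.map X.subtype

theorem PEl.conj {x : G} (h : PEl p x) (g : G) : PEl p (g * x * g⁻¹) := h.map (MulAut.conj g).toMonoidHom

theorem pEl_of_mem {P : Subgroup G} (hP : IsPGroup p P) {x : G} (hx : x ∈ P) : PEl p x :=
  pEl_coe.2 (hP ⟨x, hx⟩)

theorem PEl.isPGroup {x : G} (h : PEl p x) : IsPGroup p (zpowers x) := by
  rintro ⟨y, j, rfl⟩
  obtain ⟨k, hk⟩ := h
  refine ⟨k, Subtype.ext ?_⟩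
  show (x ^ j) ^ p ^ k = 1
  rw [← zpow_natCast, zpow_comm, zpow_natCast, hk, one_zpow]

theorem PEl.exists_sylow {x : G} (h : PEl p x) : ∃ P : Sylow p G, x ∈ P := by
  obtain ⟨P, hP⟩ := h.isPGroup.exists_le_sylow
  exact ⟨P, hP (mem_zpowers x)⟩

theorem PEl.pow {x : G} (h : PEl p x) (n : ℕ) : PEl p (x ^ n) := by
  obtain ⟨k, hk⟩ := h
  exact ⟨k, by rw [← pow_mul, mul_comm, pow_mul, hk, one_pow]⟩

theorem PEl.inv {x : G} (h : PEl p x) : PEl p x⁻¹ := by
  obtain ⟨k, hk⟩ := h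
  exact ⟨k, by rw [inv_pow, hk, inv_one]⟩

theorem PEl.eq_one {x : G} (h : PEl p x) (hx : (orderOf x).Coprime p) : x = 1 := by
  obtain ⟨k, hk⟩ := h
  refine orderOf_eq_one_iff.1 (Nat.Coprime.eq_one_of_dvd (hx.pow_right k) ?_)
  exact orderOf_dvd_of_pow_eq_one hk

theorem PEl.eq_one_of_mem {K : Subgroup G} [Finite G] (hK : (Nat.card K).Coprime p) {x : G}
    (h : PEl p x) (hx : x ∈ K) : x = 1 :=
  h.eq_one (Nat.Coprime.coprime_dvd_left (Subgroup.orderOf_dvd_natCard K hx) hK)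

/-- An element is the product of two of its powers, one of `p`-power order and one of order prime
to `p`. -/
theorem exists_split [Finite G] [hp : Fact p.Prime] (x : G) :
    ∃ u v : G, u ∈ zpowers x ∧ v ∈ zpowers x ∧ x = u * v ∧ PEl p u ∧ (orderOf v).Coprime p := by
  obtain ⟨e, m, hm, hx⟩ := Nat.exists_eq_pow_mul_and_not_dvd (orderOf_pos x).ne' p hp.out.ne_one
  have hco : IsCoprime (p ^ e : ℤ) (m : ℤ) := by
    have h0 : Nat.Coprime (p ^ e) m := ((hp.out.coprime_iff_not_dvd).2 hm).pow_left e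
    exact_mod_cast Nat.isCoprime_iff_coprime.2 h0
  obtain ⟨a, b, hab⟩ := hco
  refine ⟨x ^ ((m : ℤ) * b), x ^ ((p ^ e : ℤ) * a), zpow_mem (mem_zpowers x) _,
    zpow_mem (mem_zpowers x) _, ?_, ⟨e, ?_⟩, ?_⟩
  · rw [← zpow_add, show (m : ℤ) * b + (p ^ e : ℤ) * a = 1 by rw [← hab]; ring, zpow_one]
  · rw [← zpow_natCast, ← zpow_mul,
      show (m : ℤ) * b * ((p ^ e : ℕ) : ℤ) = ((orderOf x : ℕ) : ℤ) * b by rw [hx]; push_cast; ring,
      zpow_mul, zpow_natCast, pow_orderOf_eq_one, one_zpow]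
  · refine Nat.Coprime.coprime_dvd_left (orderOf_dvd_of_pow_eq_one (n := m) ?_)
      ((hp.out.coprime_iff_not_dvd).2 hm).symm
    rw [← zpow_natCast, ← zpow_mul,
      show (p ^ e : ℤ) * a * (m : ℤ) = ((orderOf x : ℕ) : ℤ) * a by rw [hx]; push_cast; ring,
      zpow_mul, zpow_natCast, pow_orderOf_eq_one, one_zpow]

/-- In a simple group a nonempty set without `1` cannot be stable under left multiplication by a
conjugation invariant set containing a nontrivial element. -/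
theorem closure_trick [Finite G] [IsSimpleGroup G] {T S : Set G}
    (hT : ∀ t ∈ T, ∀ g : G, g * t * g⁻¹ ∈ T) {t₀ : G} (ht₀ : t₀ ∈ T) (ht₁ : t₀ ≠ 1)
    {s₀ : G} (hs₀ : s₀ ∈ S) (h1 : (1 : G) ∉ S) (hclosed : ∀ t ∈ T, ∀ s ∈ S, t * s ∈ S) : False := by
  let M : Submonoid G :=
    { carrier := {h | ∀ s ∈ S, h * s ∈ S}
      one_mem' := fun s hs => by simpa using hs
      mul_mem' := fun {a b} ha hb s hs => by rw [mul_assoc]; exact ha _ (hb _ hs) }
  haveI : (closure T).Normal := ⟨fun n hn g => by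
    have h := mem_map_of_mem (MulAut.conj g).toMonoidHom hn
    rw [MonoidHom.map_closure] at h
    exact closure_mono (Set.image_subset_iff.2 fun t ht => hT t ht g) h⟩
  have hne : closure T ≠ ⊥ := fun h => ht₁ ((mem_bot).1 (h ▸ subset_closure ht₀))
  have htop : closure T = ⊤ := (IsSimpleGroup.eq_bot_or_eq_top_of_normal _ ‹_›).resolve_left hne
  have hM : ∀ h : G, h ∈ M := by
    intro h
    have hh : h ∈ closure T := htop ▸ mem_top h
    rw [← mem_toSubmonoid, Subgroup.closure_toSubmonoid_of_finite] at hh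
    exact (Submonoid.closure_le (S := M)).2 (fun t ht => hclosed t ht) hh
  exact h1 (by simpa using hM s₀⁻¹ s₀ hs₀)

/-- If `x` and `y` agree modulo a normal subgroup containing every `p`-element of `⟨y⟩`, it
contains every `p`-element of `⟨x⟩`. -/
theorem mem_of_agree [Finite G] [Fact p.Prime] {N : Subgroup G} [N.Normal] {x y u : G}
    (hxy : (x : G ⧸ N) = (y : G ⧸ N)) (hy : ∀ v ∈ zpowers y, PEl p v → v ∈ N)
    (hu : u ∈ zpowers x) (hpu : PEl p u) : u ∈ N := by
  obtain ⟨u₁, v₁, hu₁, -, hy', hpu₁, hv₁⟩ := exists_split (p := p) y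
  have hu₁N : u₁ ∈ N := hy u₁ hu₁ hpu₁
  have hord : (orderOf (x : G ⧸ N)).Coprime p := by
    rw [hxy, hy', QuotientGroup.mk_mul, (QuotientGroup.eq_one_iff u₁).2 hu₁N, one_mul]
    exact Nat.Coprime.coprime_dvd_left (orderOf_map_dvd (QuotientGroup.mk' N) v₁) hv₁
  obtain ⟨j, rfl⟩ := hu
  rw [← QuotientGroup.eq_one_iff]
  refine (hpu.map (QuotientGroup.mk' N)).eq_one (Nat.Coprime.coprime_dvd_left ?_ hord)
  show orderOf ((x ^ j : G) : G ⧸ N) ∣ orderOf (x : G ⧸ N)
  rw [QuotientGroup.mk_zpow]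
  exact orderOf_dvd_of_mem_zpowers (zpow_mem (mem_zpowers _) j)

section Solvable

variable [Finite G] [hp : Fact p.Prime]

/-- A `p`-element of `O_{p'}(G) Q` is conjugate under the core to an element of `Q`. -/
theorem exists_conj_mem_of_mem_sup (K : Subgroup G) [K.Normal] (Q : Sylow p G) {x : G}
    (hx : PEl p x) (h : x ∈ K ⊔ (Q : Subgroup G)) : ∃ k ∈ K, k * x * k⁻¹ ∈ Q := by
  set H := K ⊔ (Q : Subgroup G) with hH
  let Q₀ : Sylow p H := Q.subtype le_sup_right
  obtain ⟨R, hR⟩ := (pEl_coe.1 hx : PEl p (⟨x, h⟩ : H)).exists_sylow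
  obtain ⟨g, hg⟩ := MulAction.exists_smul_eq H R Q₀
  obtain ⟨k, hk, q, hq, hkq⟩ := mem_sup_of_normal_left.1 g.2
  have h1 : (g : G) * x * (g : G)⁻¹ ∈ (Q : Subgroup G) := by
    have h2 : g * ⟨x, h⟩ * g⁻¹ ∈ (Q₀ : Subgroup H) := by
      rw [← hg]
      exact ⟨⟨x, h⟩, hR, rfl⟩
    exact h2
  refine ⟨q⁻¹ * k * q, Subgroup.Normal.conj_mem' inferInstance k hk q, ?_⟩
  show _ ∈ (Q : Subgroup G)
  have h2 : q⁻¹ * ((g : G) * x * (g : G)⁻¹) * q ∈ (Q : Subgroup G) := mul_mem (mul_mem (inv_mem hq) h1) hq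
  rw [← hkq] at h2
  simpa [mul_assoc, SetLike.mem_coe] using h2

omit [Finite G] hp in
theorem mem_pPrimeCore_of_mem_sup (Q : Sylow p G) {x : G} (hx : x ∈ pPrimeCore p G ⊔ (Q : Subgroup G))
    (hp' : (orderOf x).Coprime p) : x ∈ pPrimeCore p G := by
  obtain ⟨k, hk, q, hq, rfl⟩ := mem_sup_of_normal_left.1 hx
  have h1 : ((k * q : G) : G ⧸ pPrimeCore p G) = (q : G ⧸ pPrimeCore p G) := by
    rw [QuotientGroup.mk_mul, (QuotientGroup.eq_one_iff k).2 hk, one_mul]
  rw [← QuotientGroup.eq_one_iff, h1]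
  refine ((pEl_of_mem Q.2 hq).map (QuotientGroup.mk' _)).eq_one ?_
  refine Nat.Coprime.coprime_dvd_left ?_ hp'
  rw [show (QuotientGroup.mk' (pPrimeCore p G)) q = ((k * q : G) : G ⧸ pPrimeCore p G) from h1.symm]
  exact orderOf_map_dvd (QuotientGroup.mk' _) _

variable [Group.IsSolvable G]

/-- An abelian `p`-subgroup normalised by a Sylow `p`-subgroup containing it lies in
`O_{p',p}`, so in `O_{p'}(G) Q` for every Sylow `p`-subgroup `Q`. -/
theorem mem_sup_of_mem_abelian (h5 : 5 ≤ p) {B : Subgroup G} (hB : IsMulCommutative B)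
    {Q' : Sylow p G} (hBQ : B ≤ Q') (hQB : (Q' : Subgroup G) ≤ normalizer (B : Set G))
    (Q : Sylow p G) {y : G} (hy : y ∈ B) : y ∈ pPrimeCore p G ⊔ (Q : Subgroup G) := by
  set K := pPrimeCore p G with hK
  set f := QuotientGroup.mk' K with hf
  have hfs : Function.Surjective f := QuotientGroup.mk'_surjective _
  have hsolv : Cfsg.IsPSolvable p (G ⧸ K) :=
    Cfsg.Lib.Core.isPSolvable_of_surjective f hfs Cfsg.Lib.Core.isPSolvable_of_isSolvable
  haveI : Group.IsSolvable (G ⧸ K) := inferInstance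
  have hO : pPrimeCore p (G ⧸ K) = ⊥ := Cfsg.Lib.Core.pPrimeCore_quotient_eq_bot
  set V := pCore p (G ⧸ K) with hV
  haveI : V.Normal := by
    rw [hV]; exact Subgroup.sSup_normal _ (fun N hN => hN.1)
  have hBp : IsPGroup p (B.map f) := (Q'.2.to_le hBQ).map f
  have hBc : IsMulCommutative (B.map f) := Subgroup.map_isMulCommutative _ _
  have hnorm : V ≤ normalizer ((B.map f : Subgroup (G ⧸ K)) : Set (G ⧸ K)) := by
    refine (Cfsg.Lib.Core.pCore_le_sylow (Q'.mapSurjective hfs)).trans ?_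
    rw [Sylow.coe_mapSurjective]
    exact (map_mono hQB).trans (Subgroup.le_normalizer_map f)
  have hquad := Cfsg.Lib.Local.OddStability.quadratic hBc hnorm
  have hle : (B.map f).map (QuotientGroup.mk' (centralizer (V : Set (G ⧸ K)))) ≤
      pCore p ((G ⧸ K) ⧸ centralizer (V : Set (G ⧸ K))) := by
    rintro _ ⟨a, ha, rfl⟩
    have hst := Cfsg.Lib.Local.QdInvolved.isPStableOn_of_not_involves_qd (p := p) (by omega)
      (Cfsg.Lib.Local.SL2Involved.not_involves_qd_of_not_involves_SL2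
        (Cfsg.Lib.Local.SL2Involved.not_involves_SL2_of_isPSolvable h5 hsolv)) V
      (Cfsg.Lib.Core.pCore_isPGroup p _)
    refine hst a (le_bot_iff.1 ((commutator_mono (commutator_mono le_rfl ?_) ?_).trans hquad.le))
    all_goals exact zpowers_le.2 ha
  have := Cfsg.Lib.Local.OddStability.le_pCore_of_image hO V (B.map f) inf_le_left hle
  have h2 := (this.trans (Cfsg.Lib.Core.pCore_le_sylow (Q.mapSurjective hfs))) (mem_map_of_mem f hy)
  rw [Sylow.coe_mapSurjective] at h2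
  rw [← QuotientGroup.comap_map_mk' K (Q : Subgroup G)]
  exact h2

/-- With an abelian Sylow `p`-subgroup, everything centralising it modulo `O_{p'}` lies in
`O_{p'} Q`. -/
theorem mem_sup_of_centralizes (Q : Sylow p G) {x : G}
    (hx : ∀ q ∈ (Q : Subgroup G), ((x * q : G) : G ⧸ pPrimeCore p G) = ((q * x : G) : G ⧸ pPrimeCore p G)) :
    x ∈ pPrimeCore p G ⊔ (Q : Subgroup G) := by
  set K := pPrimeCore p G with hK
  set f := QuotientGroup.mk' K with hf
  have hfs : Function.Surjective f := QuotientGroup.mk'_surjective _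
  have h1 : f x ∈ centralizer (pCore p (G ⧸ K) : Set (G ⧸ K)) := by
    rw [mem_centralizer_iff]
    intro z hz
    have h2 := Cfsg.Lib.Core.pCore_le_sylow (Q.mapSurjective hfs) hz
    rw [Sylow.coe_mapSurjective] at h2
    obtain ⟨q, hq, rfl⟩ := h2
    simpa [hf] using (hx q hq).symm
  have h2 := Cfsg.Lib.Core.centralizer_pCore_le_of_isPSolvable
    (Cfsg.Lib.Core.isPSolvable_of_surjective f hfs Cfsg.Lib.Core.isPSolvable_of_isSolvable)
    (Cfsg.Lib.Core.pPrimeCore_quotient_eq_bot) h1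
  have h3 := Cfsg.Lib.Core.pCore_le_sylow (Q.mapSurjective hfs) h2
  rw [Sylow.coe_mapSurjective] at h3
  rw [← QuotientGroup.comap_map_mk' K (Q : Subgroup G)]
  exact h3

end Solvable

end Cfsg.Lib.TwoGen
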