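import Cfsg.Agent.Lib.TwoGen.Abelian
import Cfsg.Agent.Lib.Coprime.Generation

/-!
# Two generated subgroups solvable: centralizers of `p`-elements

With elementary abelian Sylow `p`-subgroups, the centralizer of a nontrivial `p`-element has trivial
`p'`-core, so the Sylow `p`-subgroups are trivial intersection sets; two `p`-elements in different
Sylow subgroups generate a group with Sylow `p`-subgroups of order `p`.
-/

set_option autoImplicit false
set_option linter.style.haveILetI false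

namespace Cfsg.Lib.TwoGen

open Subgroup

universe u

/-- Every Sylow `p`-subgroup is elementary abelian. -/
structure Elem (G : Type u) [Group G] (p : ℕ) : Prop where
  pow : ∀ (P : Sylow p G), ∀ x ∈ (P : Subgroup G), x ^ p = 1
  comm : ∀ (P : Sylow p G), ∀ x ∈ (P : Subgroup G), ∀ y ∈ (P : Subgroup G), x * y = y * x

variable {G : Type u} [Group G] [Finite G] {p : ℕ} [hp : Fact p.Prime]

theorem Min.elem (hM : Min G) (h5 : 5 ≤ p) : Elem G p :=
  ⟨fun P => (sylow_elementary hM h5 P).1, fun P => (sylow_elementary hM h5 P).2⟩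

omit hp in
theorem Elem.pow_eq_one (hE : Elem G p) {x : G} (hx : PEl p x) : x ^ p = 1 := by
  obtain ⟨P, hP⟩ := hx.exists_sylow
  exact hE.pow P x hP

omit hp in
theorem Elem.exists_above (hE : Elem G p) {X : Subgroup G} (Q : Sylow p X) :
    (∀ x ∈ (Q : Subgroup X), x ^ p = 1) ∧ IsMulCommutative (Q : Subgroup X) := by
  obtain ⟨P, hP⟩ := (Q.2.map X.subtype).exists_le_sylow
  exact ⟨fun x hx => Subtype.ext (by simpa using hE.pow P _ (hP (mem_map_of_mem _ hx))),
    ⟨⟨fun a b => Subtype.ext (Subtype.ext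
      (hE.comm P _ (hP (mem_map_of_mem _ a.2)) _ (hP (mem_map_of_mem _ b.2))))⟩⟩⟩

/-- In a solvable subgroup every `p`-element lies in `O_{p'} Q`. -/
theorem Elem.mem_sup (hE : Elem G p) (h5 : 5 ≤ p) {X : Subgroup G} [Group.IsSolvable X]
    (Q : Sylow p X) {x : X} (hx : PEl p x) : x ∈ Cfsg.pPrimeCore p X ⊔ (Q : Subgroup X) := by
  obtain ⟨R, hR⟩ := hx.exists_sylow
  exact mem_sup_of_mem_abelian h5 (hE.exists_above R).2 le_rfl le_normalizer Q hR

/-- In a solvable subgroup the Sylow subgroup is normal modulo `O_{p'}`. -/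
theorem Elem.mk_conj_mem (hE : Elem G p) (h5 : 5 ≤ p) {X : Subgroup G} [Group.IsSolvable X]
    (Q : Sylow p X) (c : X) {r : X} (hr : r ∈ (Q : Subgroup X)) :
    ∃ q ∈ (Q : Subgroup X), ∃ k ∈ Cfsg.pPrimeCore p X, c * r * c⁻¹ * r⁻¹ = k * q := by
  obtain ⟨k, hk, q, hq, h⟩ := mem_sup_of_normal_left.1
    (mul_mem (hE.mem_sup h5 Q ((pEl_of_mem Q.2 hr).conj c)) (mem_sup_right (inv_mem hr)))
  exact ⟨q, hq, k, hk, h.symm⟩

/-- An element of a normal `p'`-subgroup of the centralizer of a nontrivial `p`-element. -/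
def Core' (p : ℕ) (c : G) : Prop :=
  ∃ (a : G) (N : Subgroup G), a ≠ 1 ∧ PEl p a ∧ c ∈ N ∧ (Nat.card N).Coprime p ∧
    N ≤ centralizer {a} ∧ centralizer {a} ≤ normalizer (N : Set G)

omit hp in
theorem core'_conj {c : G} (h : Core' p c) (g : G) : Core' p (g * c * g⁻¹) := by
  obtain ⟨a, N, ha1, hap, hc, hN, hNC, hCN⟩ := h
  refine ⟨g * a * g⁻¹, N.map (MulAut.conj g).toMonoidHom, fun h => ha1 (by simpa [mul_inv_eq_one] using h),
    hap.conj g, mem_map_of_mem (MulAut.conj g).toMonoidHom hc, ?_, ?_, ?_⟩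
  · rwa [card_map_of_injective (MulAut.conj g).injective]
  · rintro _ ⟨n, hn, rfl⟩
    rw [mem_centralizer_singleton_iff]
    show g * n * g⁻¹ * (g * a * g⁻¹) = g * a * g⁻¹ * (g * n * g⁻¹)
    have h2 := congrArg (fun z => g * z * g⁻¹) (mem_centralizer_singleton_iff.1 (hNC hn))
    simpa [mul_assoc] using h2
  · intro y hy
    have hy' : g⁻¹ * y * g ∈ centralizer ({a} : Set G) := by
      rw [mem_centralizer_singleton_iff] at hy ⊢
      have h2 := congrArg (fun z => g⁻¹ * z * g) hy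
      simpa [mul_assoc] using h2
    refine mem_normalizer_fintype fun x hx => ?_
    obtain ⟨n, hn, rfl⟩ := hx
    refine ⟨g⁻¹ * y * g * n * (g⁻¹ * y * g)⁻¹, (mem_normalizer_iff.1 (hCN hy') n).1 hn, ?_⟩
    simp [mul_assoc]

/-- Centralizers of nontrivial `p`-elements have trivial `p'`-core. -/
theorem eq_one_of_core' (hM : Min G) (hE : Elem G p) (h5 : 5 ≤ p) {c : G} (hc : Core' p c) :
    c = 1 := by
  haveI := hM.simple
  by_contra hc1
  have ha : ∃ a : G, a ≠ 1 ∧ PEl p a := by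
    obtain ⟨a, -, ha1, hap, -⟩ := hc
    exact ⟨a, ha1, hap⟩
  obtain ⟨a₀, ha₀1, ha₀p⟩ := ha
  refine closure_trick (T := {c : G | Core' p c}) (S := {g : G | ∃ u ∈ zpowers g, PEl p u ∧ u ≠ 1})
    (fun t ht g => core'_conj ht g) hc hc1 (s₀ := a₀) ⟨a₀, mem_zpowers _, ha₀p, ha₀1⟩ ?_ ?_
  · rintro ⟨u, hu, -, hu1⟩
    rw [zpowers_one_eq_bot, mem_bot] at hu
    exact hu1 hu
  · rintro c ⟨a, N, ha1, hap, hcN, hN, hNC, hCN⟩ g ⟨u, hu, hup, hu1⟩
    by_contra hnot
    have hca : c * a = a * c := mem_centralizer_singleton_iff.1 (hNC hcN)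
    set X := closure ({g, a * c} : Set G) with hX
    haveI := hM.pair g (a * c)
    have hgX : g ∈ X := subset_closure (Set.mem_insert _ _)
    have hacX : a * c ∈ X := subset_closure (Set.mem_insert_of_mem _ rfl)
    have hco : (orderOf c).Coprime p :=
      Nat.Coprime.coprime_dvd_left (Subgroup.orderOf_dvd_natCard N hcN) hN
    have haX : a ∈ X ∧ c ∈ X := by
      have h1 : (a * c) ^ p = c ^ p := by rw [Commute.mul_pow hca.symm, hE.pow_eq_one hap, one_mul]
      obtain ⟨j, hj⟩ : c ∈ zpowers (c ^ p) := mem_zpowers_pow_iff.mpr hco.symm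
      have hcX : c ∈ X := by
        have h2 : (a * c) ^ p ∈ X := pow_mem hacX p
        rw [h1] at h2
        exact (zpowers_le.2 h2) ⟨j, hj⟩
      exact ⟨by simpa using mul_mem hacX (inv_mem hcX), hcX⟩
    obtain ⟨haX, hcX⟩ := haX
    obtain ⟨Q, hQ⟩ := (pEl_coe.1 hap : PEl p (⟨a, haX⟩ : X)).exists_sylow
    set K := Cfsg.pPrimeCore p X with hK
    have hcK : (⟨c, hcX⟩ : X) ∈ K := by
      refine mem_pPrimeCore_of_mem_sup Q (mem_sup_of_centralizes Q fun r hr => ?_)
        (by rw [← orderOf_coe]; exact hco)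
      obtain ⟨q, hq, k, hk, he⟩ := hE.mk_conj_mem h5 Q ⟨c, hcX⟩ hr
      have hrC : (r : G) ∈ centralizer ({a} : Set G) := by
        rw [mem_centralizer_singleton_iff]
        exact congrArg Subtype.val (congrArg Subtype.val
          ((hE.exists_above Q).2.is_comm.comm ⟨r, hr⟩ ⟨⟨a, haX⟩, hQ⟩))
      have hcr : (c * (r : G) * c⁻¹ * (r : G)⁻¹) ∈ N := by
        rw [mul_assoc c, mul_assoc c]
        exact mul_mem hcN ((mem_normalizer_iff.1 (hCN hrC) c⁻¹).1 (inv_mem hcN))
      have h1 : ((⟨c, hcX⟩ * r * ⟨c, hcX⟩⁻¹ * r⁻¹ : X) : X ⧸ K) = 1 := by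
        have hf := orderOf_map_dvd (QuotientGroup.mk' K) (⟨c, hcX⟩ * r * ⟨c, hcX⟩⁻¹ * r⁻¹ : X)
        have h2 : (QuotientGroup.mk' K) (⟨c, hcX⟩ * r * ⟨c, hcX⟩⁻¹ * r⁻¹ : X) = QuotientGroup.mk' K q := by
          rw [he, map_mul, show QuotientGroup.mk' K k = 1 from (QuotientGroup.eq_one_iff k).2 hk, one_mul]
        show QuotientGroup.mk' K _ = 1
        rw [h2]
        refine ((pEl_of_mem Q.2 hq).map _).eq_one (Nat.Coprime.coprime_dvd_left ?_ hN)
        rw [← h2]
        refine hf.trans ?_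
        rw [← orderOf_coe]
        exact Subgroup.orderOf_dvd_natCard N (by simpa using hcr)
      rw [QuotientGroup.mk_mul, QuotientGroup.mk_mul, QuotientGroup.mk_mul, QuotientGroup.mk_inv,
        QuotientGroup.mk_inv, mul_inv_eq_one] at h1
      rw [QuotientGroup.mk_mul, QuotientGroup.mk_mul]
      exact mul_inv_eq_iff_eq_mul.1 h1
    have hagree : ((⟨g, hgX⟩ : X) : X ⧸ K) = ((⟨c * g, mul_mem hcX hgX⟩ : X) : X ⧸ K) := by
      rw [show (⟨c * g, mul_mem hcX hgX⟩ : X) = ⟨c, hcX⟩ * ⟨g, hgX⟩ from rfl, QuotientGroup.mk_mul,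
        (QuotientGroup.eq_one_iff _).2 hcK, one_mul]
    have huX : u ∈ X := (zpowers_le.2 hgX) hu
    have huK : (⟨u, huX⟩ : X) ∈ K := by
      refine mem_of_agree (p := p) hagree (fun v hv hvp => ?_) ?_ (pEl_coe.1 hup)
      · by_contra hvK
        refine hnot ⟨(v : G), ?_, pEl_coe.2 hvp, fun h => hvK ?_⟩
        · obtain ⟨j, rfl⟩ := hv
          exact ⟨j, by simp⟩
        · rw [show v = 1 from Subtype.ext h]; exact one_mem _
      · obtain ⟨j, hj⟩ := hu
        exact ⟨j, Subtype.ext (by simpa using hj)⟩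
    exact hu1 (congrArg Subtype.val ((pEl_coe.1 hup : PEl p (⟨u, huX⟩ : X)).eq_one_of_mem
      (Cfsg.Lib.Core.pPrimeCore_coprime p X) huK))

section Local

variable (hM : Min G) (hE : Elem G p) (h5 : 5 ≤ p)
include hM hE h5

/-- The centralizer of a nontrivial element of a Sylow subgroup normalises the latter, and the
Sylow subgroup is self-centralising. -/
theorem centralizer_facts (P : Sylow p G) {a : G} (ha : a ∈ (P : Subgroup G)) (ha1 : a ≠ 1) :
    centralizer ({a} : Set G) ≤ normalizer (P : Set G) ∧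
    centralizer (P : Set G) ≤ (P : Subgroup G) ∧
    ∀ P' : Sylow p G, a ∈ (P' : Subgroup G) → P' = P := by
  set C := centralizer ({a} : Set G) with hC
  have hPC : ∀ P' : Sylow p G, a ∈ (P' : Subgroup G) → (P' : Subgroup G) ≤ C := fun P' h y hy =>
    mem_centralizer_singleton_iff.2 (hE.comm P' y hy a h)
  haveI : Group.IsSolvable C := hM.proper C fun h => by
    have hz : a ∈ center G := mem_center_iff.2 fun g =>
      mem_centralizer_singleton_iff.1 (h ▸ mem_top g : g ∈ C)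
    rw [hM.center_eq_bot, mem_bot] at hz
    exact ha1 hz
  have hK : Cfsg.pPrimeCore p C = ⊥ := by
    rw [eq_bot_iff]
    intro c hc
    refine mem_bot.2 (Subtype.ext (eq_one_of_core' hM hE h5 ?_))
    refine ⟨a, (Cfsg.pPrimeCore p C).map C.subtype, ha1, pEl_of_mem P.2 ha, mem_map_of_mem _ hc, ?_,
      map_subtype_le _, ?_⟩
    · rw [card_map_of_injective C.subtype_injective]
      exact Cfsg.Lib.Core.pPrimeCore_coprime p C
    · intro y hy
      refine mem_normalizer_fintype fun x hx => ?_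
      obtain ⟨n, hn, rfl⟩ := hx
      haveI : (Cfsg.pPrimeCore p C).Normal := by infer_instance
      exact ⟨⟨y, hy⟩ * n * ⟨y, hy⟩⁻¹, Subgroup.Normal.conj_mem inferInstance n hn _, rfl⟩
  have hall : ∀ P' : Sylow p G, a ∈ (P' : Subgroup G) → ∀ x : C, PEl p x →
      (x : G) ∈ (P' : Subgroup G) := by
    intro P' h x hx
    have h1 := hE.mem_sup h5 (P'.subtype (hPC P' h)) hx
    rw [hK, bot_sup_eq] at h1
    exact h1
  refine ⟨fun y hy => mem_normalizer_fintype fun x hx => ?_, fun y hy => ?_, fun P' h' => ?_⟩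
  · exact hall P ha (⟨y, hy⟩ * ⟨x, hPC P ha hx⟩ * ⟨y, hy⟩⁻¹)
      ((pEl_coe.1 (show PEl p ((⟨x, hPC P ha hx⟩ : C) : G) from pEl_of_mem P.2 hx)).conj _)
  · have hyC : y ∈ C := mem_centralizer_singleton_iff.2 ((mem_centralizer_iff.1 hy a ha).symm)
    have h1 := mem_sup_of_centralizes (P.subtype (hPC P ha)) (x := (⟨y, hyC⟩ : C)) fun q hq => by
      exact congrArg (fun z : C => (z : C ⧸ Cfsg.pPrimeCore p C))
        (Subtype.ext ((mem_centralizer_iff.1 hy (q : G) hq).symm) : (⟨y, hyC⟩ : C) * q = q * ⟨y, hyC⟩)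
    rw [hK, bot_sup_eq] at h1
    exact h1
  · refine Sylow.ext (le_antisymm (fun x hx => ?_) (fun x hx => ?_))
    · exact hall P ha ⟨x, hPC P' h' hx⟩ (pEl_coe.1 (pEl_of_mem P'.2 hx))
    · exact hall P' h' ⟨x, hPC P ha hx⟩ (pEl_coe.1 (pEl_of_mem P.2 hx))

/-- A solvable subgroup with `p`-elements from two Sylow subgroups of `G` meets each Sylow
subgroup in at most `p` elements, and one of the two is conjugate under `O_{p'}` to a power of the
other. -/
theorem pair_facts (P : Sylow p G) {a b : G} (ha : a ∈ (P : Subgroup G)) (ha1 : a ≠ 1)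
    (hb : b ∉ (P : Subgroup G)) (hbp : PEl p b) (X : Subgroup G) [Group.IsSolvable X]
    (haX : a ∈ X) (hbX : b ∈ X) :
    (∀ x : X, (x : G) ∈ (P : Subgroup G) → (x : G) ∈ zpowers a) ∧
    (∀ x : X, PEl p x → ∃ k ∈ Cfsg.pPrimeCore p X, ((k * x * k⁻¹ : X) : G) ∈ zpowers a) ∧
    (∀ x : X, (x : G) * a = a * (x : G) → (orderOf (x : G)).Coprime p → x ∈ Cfsg.pPrimeCore p X) := by
  set K := Cfsg.pPrimeCore p X with hK
  have hsyl : ∀ x : X, (x : G) ∈ (P : Subgroup G) → ∀ R : Sylow p X, (⟨a, haX⟩ : X) ∈ (R : Subgroup X) →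
      ∀ y ∈ (R : Subgroup X), (y : G) ∈ (P : Subgroup G) := by
    intro _ _ R hR y hy
    obtain ⟨T, hT⟩ := (R.2.map X.subtype).exists_le_sylow
    rw [← (centralizer_facts hM hE h5 P ha ha1).2.2 T (hT (mem_map_of_mem _ hR))]
    exact hT (mem_map_of_mem _ hy)
  -- a Sylow subgroup of `X` containing `a` and all of `X ∩ P`
  have hXP : IsPGroup p ((P : Subgroup G).subgroupOf X) :=
    P.2.comap_of_injective _ X.subtype_injective
  obtain ⟨Q, hQ⟩ := hXP.exists_le_sylow
  have haQ : (⟨a, haX⟩ : X) ∈ (Q : Subgroup X) := hQ (mem_subgroupOf.2 ha)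
  have hQP : ∀ y ∈ (Q : Subgroup X), (y : G) ∈ (P : Subgroup G) := hsyl ⟨a, haX⟩ ha Q haQ
  haveI := (hE.exists_above Q).2
  have hQa : ∀ y ∈ (Q : Subgroup X), (y : G) ∈ zpowers a := by
    by_contra hcon
    push Not at hcon
    obtain ⟨y₀, hy₀, hy₀a⟩ := hcon
    have hnc : ¬ IsCyclic (Q : Subgroup X) := by
      intro hc
      obtain ⟨z, hz⟩ := hc.exists_generator
      have hzp : ((z : X) : G) ^ p = 1 := by
        have h1 := (hE.exists_above Q).1 _ z.2
        simpa using congrArg Subtype.val h1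
      obtain ⟨i, hi⟩ := hz ⟨_, haQ⟩
      obtain ⟨j, hj⟩ := hz ⟨_, hy₀⟩
      have hi' : ((z : X) : G) ^ i = a := by simpa using congrArg (fun w : (Q : Subgroup X) => ((w : X) : G)) hi
      have hj' : ((z : X) : G) ^ j = (y₀ : G) := by
        simpa using congrArg (fun w : (Q : Subgroup X) => ((w : X) : G)) hj
      have hz1 : ((z : X) : G) ≠ 1 := fun h => ha1 (by rw [← hi', h, one_zpow])
      have hord : orderOf ((z : X) : G) = p := orderOf_eq_prime hzp hz1
      have hza : ((z : X) : G) ∈ zpowers a := by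
        have hnd : ¬ (p : ℤ) ∣ i := fun h => ha1 (by
          rw [← hi', ← orderOf_dvd_iff_zpow_eq_one.1 (hord.symm ▸ h)])
        obtain ⟨u, v, huv⟩ := ((Nat.prime_iff_prime_int.1 hp.out).coprime_iff_not_dvd.2 hnd)
        refine ⟨v, ?_⟩
        show a ^ v = _
        calc a ^ v = ((z : X) : G) ^ (i * v) := by rw [← hi', zpow_mul]
          _ = ((z : X) : G) ^ ((p : ℤ) * u + i * v) := by
              rw [zpow_add, zpow_mul _ (p : ℤ) u, zpow_natCast, hzp, one_zpow, one_mul]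
          _ = _ := by rw [show (p : ℤ) * u + i * v = 1 by rw [← huv]; ring, zpow_one]
      exact hy₀a (hj' ▸ zpow_mem hza j)
    have hcop : (Nat.card (Q : Subgroup X)).Coprime (Nat.card K) := by
      obtain ⟨k, hk⟩ := IsPGroup.iff_card.1 Q.2
      rw [hk]
      exact ((Cfsg.Lib.Core.pPrimeCore_coprime p X).symm).pow_left k
    have hgen := Cfsg.Lib.Coprime.le_iSup_centralizer_of_not_isCyclic (G := K) hnc
      (by rw [normalizer_eq_top_iff.2 inferInstance]; exact le_top) hcop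
    have hKN : ∀ k ∈ K, (k : G) ∈ normalizer (P : Set G) := by
      intro k hk
      have : k ∈ (normalizer (P : Set G)).comap X.subtype := by
        refine (hgen.trans (iSup_le fun e => ?_)) hk
        intro y hy
        refine (centralizer_facts hM hE h5 P (hQP _ e.2.1) (fun h => e.2.2 (Subtype.ext h))).1 ?_
        exact mem_centralizer_singleton_iff.2 (congrArg Subtype.val (mem_centralizer_singleton_iff.1 hy.2))
      exact this
    obtain ⟨k, hk, hkb⟩ := exists_conj_mem_of_mem_sup K Q (pEl_coe.1 hbp)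
      (hE.mem_sup h5 Q (pEl_coe.1 hbp : PEl p (⟨b, hbX⟩ : X)))
    apply hb
    have h1 := (mem_normalizer_iff.1 (inv_mem (hKN k hk)) _).1 (hQP _ hkb)
    simpa [mul_assoc] using h1
  refine ⟨fun x hx => hQa x (hQ (mem_subgroupOf.2 hx)), fun x hx => ?_, fun x hxa hxo => ?_⟩
  · obtain ⟨k, hk, h⟩ := exists_conj_mem_of_mem_sup K Q hx (hE.mem_sup h5 Q hx)
    exact ⟨k, hk, hQa _ h⟩
  · refine mem_pPrimeCore_of_mem_sup Q (mem_sup_of_centralizes Q fun q hq => ?_)
      (by rw [← orderOf_coe]; exact hxo)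
    obtain ⟨j, hj⟩ := hQa q hq
    refine congrArg (fun z : X => (z : X ⧸ K)) (Subtype.ext ?_)
    show (x : G) * (q : G) = (q : G) * (x : G)
    rw [← hj]
    exact (Commute.zpow_right (hxa : Commute (x : G) a) j).eq

end Local

end Cfsg.Lib.TwoGen
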