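import Cfsg.Agent.Lib.Char.Formulas
import Cfsg.Agent.Lib.Char.Constituents
import Cfsg.Agent.Lib.Char.Central

/-!
# Character bounds for triples in a normal subset

A lower bound on faithful degrees from fixed-point-free conjugation on an abelian subgroup, and
the resulting bound on the number of triples with product one in a normal subset.
-/

set_option autoImplicit false
set_option linter.style.haveILetI false

namespace Cfsg.Lib.TwoGen

open Cfsg Cfsg.Lib.Char Subgroup Module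
open scoped ComplexConjugate

universe u

variable {G : Type u} [Group G] [Fintype G]

/-- A family of elements normalising a nontrivial abelian subgroup, with fixed-point-free
quotients, bounds the degree of a faithful character from below. -/
theorem card_le_degree {χ : G → ℂ} (hχ : IsIrrCharacter G χ)
    (hfaith : charKer hχ.isCharacter = ⊥) (R : Subgroup G)
    (hR : ∀ a ∈ R, ∀ b ∈ R, a * b = b * a) (hne : R ≠ ⊥) {m : ℕ} (h : Fin m → G)
    (hN : ∀ i, h i ∈ normalizer (R : Set G))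
    (hfree : ∀ i j, i ≠ j → ∀ r ∈ R, (h i)⁻¹ * h j * r * ((h i)⁻¹ * h j)⁻¹ = r → r = 1) :
    ∃ n : ℕ, χ 1 = n ∧ m ≤ n := by
  classical
  obtain ⟨n, -, hn⟩ := hχ.exists_degree
  refine ⟨n, hn, ?_⟩
  haveI := Fintype.ofFinite R
  obtain ⟨s, hs⟩ := exists_multiset_linear (G := R) (fun a b => Subtype.ext (hR a a.2 b b.2))
    (hχ.isCharacter.comp (f := R.subtype))
  have hcard : s.card = n := by
    have h1 := hs 1
    simp only [map_one, hn, Units.val_one, Multiset.map_const',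
      Multiset.sum_replicate, nsmul_eq_mul, mul_one] at h1
    exact_mod_cast h1.symm
  -- some constituent is nontrivial
  obtain ⟨φ, hφs, hφ1⟩ : ∃ φ ∈ s, φ ≠ 1 := by
    by_contra hall
    push Not at hall
    refine hne (eq_bot_iff.2 fun r hr => ?_)
    rw [← hfaith, mem_charKer, hn]
    have h1 := hs ⟨r, hr⟩
    rw [show χ r = _ from h1,
      Multiset.map_congr rfl (g := fun _ : R →* ℂˣ => (1 : ℂ)) fun ψ hψ => by rw [hall ψ hψ]; rfl]
    simp [hcard]
  -- conjugation preserves the multiset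
  let tw : Fin m → (R →* R) := fun i => MonoidHom.mk'
    (fun r => ⟨h i * r * (h i)⁻¹, (mem_normalizer_iff.1 (hN i) r).1 r.2⟩)
    (fun a b => Subtype.ext (by simp [mul_assoc]))
  have hmem : ∀ i, φ.comp (tw i) ∈ s := by
    intro i
    set s' := s.map fun ψ : R →* ℂˣ => ψ.comp (tw i) with hs'
    have hss : s = s' := by
      have hfun : ∀ r : R, (s.map fun ψ : R →* ℂˣ => (ψ r : ℂ)).sum =
          (s'.map fun ψ : R →* ℂˣ => (ψ r : ℂ)).sum := by
        intro r
        rw [hs', Multiset.map_map]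
        show _ = (s.map fun ψ : R →* ℂˣ => (ψ (tw i r) : ℂ)).sum
        rw [← hs, ← hs]
        exact (hχ.isCharacter.conj_invariant r (h i)).symm
      have hli : LinearIndependent ℂ (fun ψ : R →* ℂˣ => (fun r => (ψ r : ℂ) : R → ℂ)) :=
        (linearIndependent_monoidHom R ℂ).comp (fun ψ : R →* ℂˣ => (Units.coeHom ℂ).comp ψ)
          fun a b hab => MonoidHom.ext fun r => Units.ext (DFunLike.congr_fun hab r)
      have hsum : ∀ t : Multiset (R →* ℂˣ), t.toFinset ⊆ (s + s').toFinset → ∀ r : R,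
          (t.map fun ψ : R →* ℂˣ => (ψ r : ℂ)).sum =
            ∑ ψ ∈ (s + s').toFinset, (t.count ψ : ℂ) * (ψ r : ℂ) := by
        intro t ht r
        rw [Finset.sum_multiset_map_count]
        simp only [nsmul_eq_mul]
        exact Finset.sum_subset ht fun ψ _ hψ => by
          rw [Multiset.count_eq_zero.2 (fun h => hψ (Multiset.mem_toFinset.2 h)), Nat.cast_zero, zero_mul]
      refine Multiset.ext.2 fun ψ => ?_
      by_cases hψ : ψ ∈ (s + s').toFinset
      · have h0 := (linearIndependent_iff'.1 hli) (s + s').toFinset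
          (fun ψ => (s.count ψ : ℂ) - (s'.count ψ : ℂ)) (funext fun r => ?_) ψ hψ
        · exact_mod_cast sub_eq_zero.1 h0
        · simp only [Finset.sum_apply, Pi.smul_apply, smul_eq_mul, sub_mul, Finset.sum_sub_distrib,
            Pi.zero_apply]
          rw [← hsum s (fun x hx => by simp at hx ⊢; exact Or.inl hx) r,
            ← hsum s' (fun x hx => by simp at hx ⊢; exact Or.inr hx) r, hfun, sub_self]
      · simp only [Multiset.mem_toFinset, Multiset.mem_add, not_or] at hψ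
        rw [Multiset.count_eq_zero.2 hψ.1, Multiset.count_eq_zero.2 hψ.2]
    rw [hss]
    exact Multiset.mem_map_of_mem _ hφs
  have hinj : Function.Injective fun i => φ.comp (tw i) := by
    intro i j hij
    by_contra hne'
    refine hφ1 (MonoidHom.ext fun r => ?_)
    set c := (h i)⁻¹ * h j with hc
    have hcN : c ∈ normalizer (R : Set G) := mul_mem (inv_mem (hN i)) (hN j)
    let δ : R → R := fun r => ⟨c * r * c⁻¹ * (r : G)⁻¹,
      mul_mem ((mem_normalizer_iff.1 hcN r).1 r.2) (inv_mem r.2)⟩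
    have hδ : Function.Injective δ := by
      intro a b hab
      have h1 : c * a * c⁻¹ * (a : G)⁻¹ = c * b * c⁻¹ * (b : G)⁻¹ := congrArg Subtype.val hab
      have h2 : c * ((b : G)⁻¹ * a) * c⁻¹ = (b : G)⁻¹ * a := by
        have hbb : c * (b : G) * c⁻¹ ∈ R := (mem_normalizer_iff.1 hcN b).1 b.2
        calc c * ((b : G)⁻¹ * a) * c⁻¹ = (c * b * c⁻¹)⁻¹ * (c * a * c⁻¹ * (a : G)⁻¹) * a := by group
          _ = (c * b * c⁻¹)⁻¹ * (c * b * c⁻¹ * (b : G)⁻¹) * a := by rw [h1]
          _ = _ := by group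
      exact Subtype.ext (inv_mul_eq_one.1 (hfree i j hne' _ (mul_mem (inv_mem b.2) a.2) h2)).symm
    obtain ⟨w, hw⟩ := Finite.surjective_of_injective hδ r
    have hv : ∀ v : R, φ (tw i v) = φ (tw j v) := fun v => DFunLike.congr_fun hij v
    let v : R := ⟨(h i)⁻¹ * w * h i, by
      simpa using (mem_normalizer_iff.1 (inv_mem (hN i)) w).1 w.2⟩
    let v' : R := ⟨(h i)⁻¹ * (c * w * c⁻¹) * h i, by
      simpa using (mem_normalizer_iff.1 (inv_mem (hN i)) _).1 ((mem_normalizer_iff.1 hcN w).1 w.2)⟩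
    have e1 : tw i v = w := Subtype.ext (by simp [tw, v, mul_assoc])
    have e2 : tw i v' = ⟨c * w * c⁻¹, (mem_normalizer_iff.1 hcN w).1 w.2⟩ :=
      Subtype.ext (by simp [tw, v', mul_assoc])
    -- `tw j = tw i ∘ conj c`
    have e3 : ∀ x : R, tw j x = tw i ⟨c * x * c⁻¹, (mem_normalizer_iff.1 hcN x).1 x.2⟩ := fun x =>
      Subtype.ext (by simp [tw, hc, mul_assoc])
    have hconst : ∀ x : R, φ (tw i ⟨c * x * c⁻¹, (mem_normalizer_iff.1 hcN x).1 x.2⟩) = φ (tw i x) :=
      fun x => by rw [← e3, hv]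
    rw [MonoidHom.one_apply]
    -- every element is `[c, x]`
    obtain ⟨x, hx⟩ : ∃ x : R, tw i (δ x) = r := by
      have hbij : Function.Bijective (tw i) := Finite.injective_iff_bijective.1 fun a b hab =>
        Subtype.ext (by simpa [tw] using congrArg Subtype.val hab)
      obtain ⟨y, hy⟩ := hbij.2 r
      obtain ⟨x, hx⟩ := Finite.surjective_of_injective hδ y
      exact ⟨x, hx ▸ hy⟩
    rw [← hx]
    rw [show δ x = ⟨c * x * c⁻¹, (mem_normalizer_iff.1 hcN x).1 x.2⟩ * x⁻¹ from rfl, map_mul, map_mul,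
      hconst, map_inv, map_inv, mul_inv_cancel]
  calc m = (Finset.univ.map ⟨_, hinj⟩).card := by simp
    _ ≤ s.toFinset.card := Finset.card_le_card fun x hx => by
        simp only [Finset.mem_map, Finset.mem_univ, true_and, Function.Embedding.coeFn_mk] at hx
        obtain ⟨i, rfl⟩ := hx
        exact Multiset.mem_toFinset.2 (hmem i)
    _ ≤ s.card := s.toFinset_card_le
    _ = n := hcard

variable [DecidableEq G] (D : Finset G)

/-- The number of triples of the set with product one. -/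
def tripleCount : ℕ := ((D ×ˢ D ×ˢ D).filter fun t => t.1 * t.2.1 * t.2.2 = 1).card

theorem sum_sq_normal (hD : ∀ x ∈ D, ∀ g : G, g * x * g⁻¹ ∈ D) :
    ∑ χ : IrrCharacter G, ‖∑ x ∈ D, (χ : G → ℂ) x‖ ^ 2 = (D.card : ℝ) * Nat.card G := by
  classical
  set f : G → ℂ := fun x => if x ∈ D then 1 else 0 with hf
  have hfc : IsClassFunction G f := fun x k => if_congr
    ⟨fun h => by simpa [mul_assoc] using hD _ h k⁻¹, fun h => hD x h k⟩ rfl rfl
  have h1 := classInner_eq_sum (f' := f) hfc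
  have h2 : ∀ χ : IrrCharacter G, classInner f (χ : G → ℂ) =
      (Nat.card G : ℂ)⁻¹ * conj (∑ x ∈ D, (χ : G → ℂ) x) := fun χ => by
    simp [classInner, hf, map_sum]
  have h3 : classInner f f = (Nat.card G : ℂ)⁻¹ * D.card := by
    simp [classInner, hf, apply_ite conj, Finset.sum_ite_mem]
  rw [h3] at h1
  simp only [h2, map_mul, map_inv₀, map_natCast, Complex.conj_conj] at h1
  have hG : (Nat.card G : ℂ) ≠ 0 := card_cast_ne_zero
  have h4 : ∑ χ : IrrCharacter G, ((‖∑ x ∈ D, (χ : G → ℂ) x‖ ^ 2 : ℝ) : ℂ) =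
      (D.card : ℂ) * Nat.card G := by
    have h5 : (Nat.card G : ℂ) ^ 2 * ((Nat.card G : ℂ)⁻¹ * D.card) =
        ∑ χ : IrrCharacter G, ((‖∑ x ∈ D, (χ : G → ℂ) x‖ ^ 2 : ℝ) : ℂ) := by
      rw [h1, Finset.mul_sum]
      refine Finset.sum_congr rfl fun χ _ => ?_
      rw [Complex.ofReal_pow, ← Complex.conj_mul']
      field_simp
    rw [← h5]
    field_simp
  exact_mod_cast h4

theorem sum_cube_normal (hD : ∀ x ∈ D, ∀ g : G, g * x * g⁻¹ ∈ D) :
    ∑ χ : IrrCharacter G, (∑ x ∈ D, (χ : G → ℂ) x) ^ 3 / (χ : G → ℂ) 1 =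
      (Nat.card G : ℂ) * (tripleCount D : ℂ) := by
  classical
  have hterm : ∀ χ : IrrCharacter G, (∑ x ∈ D, (χ : G → ℂ) x) ^ 3 / (χ : G → ℂ) 1 =
      (χ : G → ℂ) 1 * ∑ t ∈ D ×ˢ D ×ˢ D, (χ : G → ℂ) (t.1 * t.2.1 * t.2.2) := by
    intro χ
    obtain ⟨n, ρ, hρ, hc⟩ := χ.2
    have hfc : IsClassFunction G fun x => if x ∈ D then (1 : ℂ) else 0 := fun x k => if_congr
      ⟨fun h => by simpa [mul_assoc] using hD _ h k⁻¹, fun h => hD x h k⟩ rfl rfl
    have key := averageOp_irreducible ρ hfc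
    simp only [averageOp, ite_smul, one_smul, zero_smul, ite_mul, one_mul, zero_mul,
      Finset.sum_ite_mem, Finset.univ_inter] at key
    rw [← hc]
    have h1 : ∀ x y z : G, ρ.character (x * y * z) =
        LinearMap.trace ℂ (Fin n → ℂ) (ρ x * ρ y * ρ z) := fun x y z => by
      rw [← map_mul, ← map_mul]; rfl
    simp only [Finset.sum_product, h1, ← map_sum]
    have hT : ∑ x ∈ D, ∑ y ∈ D, ∑ z ∈ D, ρ x * ρ y * ρ z =
        (∑ x ∈ D, ρ x) * (∑ y ∈ D, ρ y) * ∑ z ∈ D, ρ z := by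
      rw [Finset.sum_mul_sum, Finset.sum_mul]
      exact Finset.sum_congr rfl fun x _ => by rw [Finset.sum_mul]; simp only [Finset.mul_sum]
    rw [hT, key, show (LinearMap.id : (Fin n → ℂ) →ₗ[ℂ] (Fin n → ℂ)) = 1 from rfl]
    simp only [smul_mul_assoc, mul_smul_comm, one_mul, map_smul, smul_eq_mul, LinearMap.trace_one,
      ρ.char_one]
    have hd : (finrank ℂ (Fin n → ℂ) : ℂ) ≠ 0 :=
      Nat.cast_ne_zero.mpr (irreducible_finrank_pos ρ).ne'
    field_simp
  simp only [hterm, Finset.mul_sum]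
  rw [Finset.sum_comm]
  simp only [sum_degree_mul, Finset.sum_ite, Finset.sum_const_zero, add_zero, Finset.sum_const,
    nsmul_eq_mul, tripleCount]
  ring

/-- The triple count is close to its average when all nontrivial degrees are large. -/
theorem triple_bound (hD : ∀ x ∈ D, ∀ g : G, g * x * g⁻¹ ∈ D) {m : ℕ} (hm : 0 < m)
    (hdeg : ∀ χ : G → ℂ, IsIrrCharacter G χ → (χ ≠ fun _ => 1) → ∃ n : ℕ, χ 1 = n ∧ m ≤ n)
    (hpos : (D.card : ℝ) ^ 3 ≤ Nat.card G * tripleCount D) :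
    ((Nat.card G : ℝ) * tripleCount D - (D.card : ℝ) ^ 3) ^ 2 * (m : ℝ) ^ 2 ≤
      ((Nat.card G : ℝ) * D.card) ^ 3 := by
  classical
  set one : IrrCharacter G := ⟨fun _ => 1, isIrrCharacter_one⟩ with hone
  set M : ℝ := Real.sqrt ((Nat.card G : ℝ) * D.card) with hM
  have hR := sum_sq_normal D hD
  have hle : ∀ χ : IrrCharacter G, ‖∑ x ∈ D, (χ : G → ℂ) x‖ ≤ M := by
    intro χ
    rw [hM]
    refine Real.le_sqrt_of_sq_le ?_
    rw [mul_comm, ← hR]
    exact Finset.single_le_sum (f := fun χ : IrrCharacter G => ‖∑ x ∈ D, (χ : G → ℂ) x‖ ^ 2)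
      (fun χ _ => by positivity) (Finset.mem_univ χ)
  have h1 := sum_cube_normal D hD
  rw [← Finset.add_sum_erase _ _ (Finset.mem_univ one)] at h1
  simp only [hone, Finset.sum_const, nsmul_eq_mul, mul_one, div_one] at h1
  set E := (Finset.univ : Finset (IrrCharacter G)).erase one with hE
  have h2 : (((Nat.card G : ℝ) * tripleCount D - (D.card : ℝ) ^ 3 : ℝ) : ℂ) =
      ∑ χ ∈ E, (∑ x ∈ D, (χ : G → ℂ) x) ^ 3 / (χ : G → ℂ) 1 := by
    push_cast
    rw [← h1]; ring
  have h3 : ((Nat.card G : ℝ) * tripleCount D - (D.card : ℝ) ^ 3) * m ≤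
      M * ((Nat.card G : ℝ) * D.card) := by
    have hm' : (0 : ℝ) < m := Nat.cast_pos.2 hm
    rw [← le_div_iff₀ hm']
    calc ((Nat.card G : ℝ) * tripleCount D - (D.card : ℝ) ^ 3)
        = ‖(((Nat.card G : ℝ) * tripleCount D - (D.card : ℝ) ^ 3 : ℝ) : ℂ)‖ := by
          rw [Complex.norm_real, Real.norm_of_nonneg (by linarith)]
      _ ≤ ∑ χ ∈ E, ‖(∑ x ∈ D, (χ : G → ℂ) x) ^ 3 / (χ : G → ℂ) 1‖ := by rw [h2]; exact norm_sum_le _ _
      _ ≤ ∑ χ ∈ E, M * ‖∑ x ∈ D, (χ : G → ℂ) x‖ ^ 2 / m := by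
          refine Finset.sum_le_sum fun χ hχ => ?_
          obtain ⟨n, hn, hmn⟩ := hdeg χ χ.2 fun h => (Finset.ne_of_mem_erase hχ) (Subtype.ext h)
          rw [norm_div, norm_pow, hn, Complex.norm_natCast, pow_succ']
          gcongr
          exact hle χ
      _ = M * (∑ χ ∈ E, ‖∑ x ∈ D, (χ : G → ℂ) x‖ ^ 2) / m := by rw [Finset.mul_sum, Finset.sum_div]
      _ ≤ M * ((Nat.card G : ℝ) * D.card) / m := by
          gcongr
          rw [mul_comm, ← hR]
          exact Finset.sum_le_univ_sum_of_nonneg (fun χ => by positivity)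
  have hMsq : M ^ 2 = (Nat.card G : ℝ) * D.card := Real.sq_sqrt (by positivity)
  calc ((Nat.card G : ℝ) * tripleCount D - (D.card : ℝ) ^ 3) ^ 2 * (m : ℝ) ^ 2
      = (((Nat.card G : ℝ) * tripleCount D - (D.card : ℝ) ^ 3) * m) ^ 2 := by ring
    _ ≤ (M * ((Nat.card G : ℝ) * D.card)) ^ 2 :=
        pow_le_pow_left₀ (mul_nonneg (by linarith) (Nat.cast_nonneg _)) h3 2
    _ = _ := by rw [mul_pow, hMsq]; ring

end Cfsg.Lib.TwoGen
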