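import Cfsg.Agent.Lib.TwoGen.Free
import Cfsg.Agent.Lib.TwoGen.CharBound

/-!
# Two generated subgroups solvable: the count of `p`-element triples

Products `a * b ^ m` of `p`-elements are almost always `p`-elements, which contradicts the
character bound.
-/

set_option autoImplicit false
set_option linter.style.haveILetI false
set_option linter.unusedSectionVars false

namespace Cfsg.Lib.TwoGen

open Subgroup

universe u

variable {G : Type u} [Group G] [Finite G] {p : ℕ} [hp : Fact p.Prime]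
variable (hM : Min G) (hE : Elem G p) (h5 : 5 ≤ p)
include hM hE h5

/-- Some `p`-element lies outside a given Sylow subgroup. -/
theorem exists_outside (P : Sylow p G) (hP : (P : Subgroup G) ≠ ⊥) :
    ∃ b : G, PEl p b ∧ b ∉ (P : Subgroup G) := by
  haveI := hM.simple
  by_contra h
  push Not at h
  have hn : (P : Subgroup G).Normal := ⟨fun x hx g => h _ ((pEl_of_mem P.2 hx).conj g)⟩
  rcases IsSimpleGroup.eq_bot_or_eq_top_of_normal _ hn with h' | h'
  · exact hP h'
  · have hpg : IsPGroup p G := (P.2.of_equiv ((MulEquiv.subgroupCongr h').trans topEquiv))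
    haveI := hpg.isNilpotent
    exact hM.nonsol inferInstance

/-- Conjugation by an element congruent to a power of `a` prime to `p` acts without fixed points on
`O_{p'}`, so every element of the coset is conjugate to it. -/
theorem exists_conj_mul (X : Subgroup G) {a : X} (ha1 : a ≠ 1) (hap : PEl p a)
    {f : X} (hf : f ∈ Cfsg.pPrimeCore p X) : ∃ w : X, w * a * w⁻¹ = a * f := by
  set K := Cfsg.pPrimeCore p X with hK
  obtain ⟨P, hP⟩ := (pEl_coe.2 hap : PEl p (a : G)).exists_sylow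
  let φ : K → K := fun w => ⟨a⁻¹ * (w : X) * a, Subgroup.Normal.conj_mem' inferInstance _ w.2 a⟩ * w⁻¹
  have hφ : Function.Injective φ := by
    intro w₁ w₂ hw
    have h1 : a⁻¹ * (w₁ : X) * a * (w₁ : X)⁻¹ = a⁻¹ * (w₂ : X) * a * (w₂ : X)⁻¹ :=
      congrArg Subtype.val hw
    have h2 : ((w₂ : X)⁻¹ * (w₁ : X)) * a = a * ((w₂ : X)⁻¹ * (w₁ : X)) := by
      calc ((w₂ : X)⁻¹ * (w₁ : X)) * a
          = (w₂ : X)⁻¹ * a * (a⁻¹ * (w₁ : X) * a * (w₁ : X)⁻¹) * (w₁ : X) := by group
        _ = (w₂ : X)⁻¹ * a * (a⁻¹ * (w₂ : X) * a * (w₂ : X)⁻¹) * (w₁ : X) := by rw [h1]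
        _ = _ := by group
    have h3 : (((w₂ : X)⁻¹ * (w₁ : X) : X) : G) ∈ (P : Subgroup G) :=
      mem_of_commute hM hE h5 P hP (fun h => ha1 (Subtype.ext h)) (by simpa using congrArg Subtype.val h2)
    have h4 : (w₂ : X)⁻¹ * (w₁ : X) = 1 := (pEl_coe.1 (pEl_of_mem P.2 h3)).eq_one_of_mem
      (Cfsg.Lib.Core.pPrimeCore_coprime p X) (mul_mem (inv_mem w₂.2) w₁.2)
    exact Subtype.ext (inv_mul_eq_one.1 h4).symm
  obtain ⟨w, hw⟩ := Finite.surjective_of_injective hφ ⟨f, hf⟩
  refine ⟨w, ?_⟩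
  rw [show f = a⁻¹ * (w : X) * a * (w : X)⁻¹ from (congrArg Subtype.val hw).symm]
  group

/-- At most one power of `b` multiplies `a` out of the nontrivial `p`-elements. -/
theorem exceptions_le_one {a b : G} (ha : a ≠ 1 ∧ PEl p a) (hb : b ≠ 1 ∧ PEl p b) {m m' : ℕ}
    (hm : m < p) (hm' : m' < p) (h : ¬ (a * b ^ m ≠ 1 ∧ PEl p (a * b ^ m)))
    (h' : ¬ (a * b ^ m' ≠ 1 ∧ PEl p (a * b ^ m'))) : m = m' := by
  obtain ⟨P, haP⟩ := ha.2.exists_sylow
  have hordb : orderOf b = p := orderOf_eq_prime (hE.pow_eq_one hb.2) hb.1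
  by_cases hbP : b ∈ (P : Subgroup G)
  · have key : ∀ m : ℕ, ¬ (a * b ^ m ≠ 1 ∧ PEl p (a * b ^ m)) → b ^ m = a⁻¹ := fun m h =>
      eq_inv_of_mul_eq_one_right (by_contra fun h1 => h ⟨h1, pEl_of_mem P.2 (mul_mem haP (pow_mem hbP m))⟩)
    have h1 : b ^ m = b ^ m' := (key m h).trans (key m' h').symm
    exact pow_injOn_Iio_orderOf (x := b) (by simpa [hordb] using hm) (by simpa [hordb] using hm') h1
  · set X := closure ({a, b} : Set G) with hX
    haveI := hM.pair a b
    have haX : a ∈ X := subset_closure (Set.mem_insert _ _)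
    have hbX : b ∈ X := subset_closure (Set.mem_insert_of_mem _ rfl)
    set K := Cfsg.pPrimeCore p X with hK
    obtain ⟨-, hcl, -⟩ := pair_facts hM hE h5 P haP ha.1 hbP hb.2 X haX hbX
    obtain ⟨k, hk, j, hj⟩ := hcl ⟨b, hbX⟩ (pEl_coe.1 hb.2)
    set A : X := ⟨a, haX⟩ with hA
    set B : X := ⟨b, hbX⟩ with hB
    have hkA : k * B * k⁻¹ = A ^ j := Subtype.ext (by simpa [A, B] using hj.symm)
    have hAp : A ^ (p : ℤ) = 1 := by
      rw [zpow_natCast]; exact Subtype.ext (by simpa [A] using hE.pow_eq_one ha.2)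
    have hordA : orderOf A = p := orderOf_eq_prime (by simpa using hAp)
      fun h => ha.1 (congrArg Subtype.val h)
    have hpj : ¬ (p : ℤ) ∣ j := by
      intro hdvd
      rw [← hordA, orderOf_dvd_iff_zpow_eq_one] at hdvd
      rw [hdvd, conj_eq_one_iff] at hkA
      exact hb.1 (congrArg Subtype.val hkA)
    have hBK : (B : X ⧸ K) = ((A ^ j : X) : X ⧸ K) := by
      rw [← hkA, QuotientGroup.mk_mul, QuotientGroup.mk_mul, QuotientGroup.mk_inv,
        (QuotientGroup.eq_one_iff k).2 hk, one_mul, inv_one, mul_one]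
    have key : ∀ m : ℕ, ¬ (a * b ^ m ≠ 1 ∧ PEl p (a * b ^ m)) → (p : ℤ) ∣ 1 + j * m := by
      intro m h
      by_contra hnd
      apply h
      set A' := A ^ (1 + j * (m : ℤ)) with hA'
      have hA'1 : A' ≠ 1 := fun h => hnd (hordA ▸ orderOf_dvd_iff_zpow_eq_one.2 h)
      have hA'p : PEl p A' := ⟨1, by
        rw [pow_one, hA', ← zpow_natCast, ← zpow_mul, mul_comm, zpow_mul, hAp, one_zpow]⟩
      have heq : ((A * B ^ m : X) : X ⧸ K) = ((A' : X) : X ⧸ K) := by
        rw [QuotientGroup.mk_mul, QuotientGroup.mk_pow, hBK, ← QuotientGroup.mk_pow,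
          ← QuotientGroup.mk_mul, hA', zpow_add, zpow_one, zpow_mul, zpow_natCast]
      have hf : A'⁻¹ * (A * B ^ m) ∈ K := QuotientGroup.eq.1 heq.symm
      obtain ⟨w, hw⟩ := exists_conj_mul hM hE h5 X hA'1 hA'p hf
      rw [mul_inv_cancel_left] at hw
      have hval : a * b ^ m = (w : G) * (A' : G) * (w : G)⁻¹ := by
        simpa [A, B] using (congrArg Subtype.val hw).symm
      rw [hval]
      exact ⟨fun h1 => hA'1 (Subtype.ext (by simpa [mul_inv_eq_one] using h1)),
        (pEl_coe.2 hA'p).conj _⟩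
    have h1 : (p : ℤ) ∣ j * ((m : ℤ) - m') := by
      rw [mul_sub]
      simpa using dvd_sub (key m h) (key m' h')
    have h2 : (p : ℤ) ∣ (m : ℤ) - m' :=
      ((Nat.prime_iff_prime_int.1 hp.out).dvd_mul.1 h1).resolve_left hpj
    by_contra hne
    have := Int.le_of_dvd (abs_pos.2 (sub_ne_zero.2 (by exact_mod_cast hne : (m : ℤ) ≠ m')))
      ((dvd_abs _ _).2 h2)
    have h3 : |(m : ℤ) - m'| < p := abs_sub_lt_of_nonneg_of_lt (by positivity) (by exact_mod_cast hm)
      (by positivity) (by exact_mod_cast hm')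
    omega

/-- The nontrivial elements of a Sylow subgroup are `N(P)`-conjugate to powers of any one of them. -/
theorem exists_conj_pow (P : Sylow p G) {a e : G} (ha : a ∈ (P : Subgroup G)) (ha1 : a ≠ 1)
    (he : e ∈ (P : Subgroup G)) (he1 : e ≠ 1) :
    ∃ g ∈ normalizer (P : Set G), ∃ j ∈ Finset.Icc 1 (p - 1), g * a ^ j * g⁻¹ = e := by
  obtain ⟨b, hbp, hb⟩ := exists_outside hM hE h5 P (fun h => ha1 (by
    have h' : a ∈ (⊥ : Subgroup G) := h ▸ ha
    exact mem_bot.1 h'))
  have hb1 : b ≠ 1 := fun h => hb (h ▸ one_mem _)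
  -- `e` is conjugate to a power of `b`, and `b` to a power of `a`
  have conjpow : ∀ c ∈ (P : Subgroup G), c ≠ 1 → ∃ (g : G) (i : ℤ), g * b * g⁻¹ = c ^ i := by
    intro c hc hc1
    set X := closure ({c, b} : Set G) with hX
    haveI := hM.pair c b
    obtain ⟨-, hcl, -⟩ := pair_facts hM hE h5 P hc hc1 hb hbp X (subset_closure (Set.mem_insert _ _))
      (subset_closure (Set.mem_insert_of_mem _ rfl))
    obtain ⟨k, -, i, hi⟩ := hcl ⟨b, subset_closure (Set.mem_insert_of_mem _ rfl)⟩ (pEl_coe.1 hbp)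
    exact ⟨(k : G), i, by simpa using hi.symm⟩
  obtain ⟨g₁, i₁, h₁⟩ := conjpow a ha ha1
  obtain ⟨g₂, i₂, h₂⟩ := conjpow e he he1
  have horde : orderOf e = p := orderOf_eq_prime (hE.pow P e he) he1
  have horda : orderOf a = p := orderOf_eq_prime (hE.pow P a ha) ha1
  have hnd : ¬ (p : ℤ) ∣ i₂ := fun h => hb1 (by
    rw [← horde, orderOf_dvd_iff_zpow_eq_one] at h
    rwa [h, conj_eq_one_iff] at h₂)
  obtain ⟨u, v, huv⟩ := ((Nat.prime_iff_prime_int.1 hp.out).coprime_iff_not_dvd.2 hnd)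
  have h3 : e = (g₂ * g₁⁻¹) * a ^ (i₁ * v) * (g₂ * g₁⁻¹)⁻¹ := by
    rw [zpow_mul, ← h₁]
    have e1 : g₁ * b * g₁⁻¹ = g₁ * g₂⁻¹ * e ^ i₂ * (g₁ * g₂⁻¹)⁻¹ := by rw [← h₂]; group
    rw [e1, conj_zpow, ← zpow_mul]
    have e2 : e ^ (i₂ * v) = e := by
      calc e ^ (i₂ * v) = e ^ ((p : ℤ) * u + i₂ * v) := by
            rw [zpow_add, zpow_mul e (p : ℤ) u, zpow_natCast, hE.pow P e he, one_zpow, one_mul]
        _ = e := by rw [show (p : ℤ) * u + i₂ * v = 1 by rw [← huv]; ring, zpow_one]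
    rw [e2]; group
  set j := ((i₁ * v) % (p : ℤ)).toNat with hj
  have hp0 : (0 : ℤ) < p := by exact_mod_cast hp.out.pos
  have haj : a ^ (i₁ * v) = a ^ j := by
    rw [← zpow_natCast, hj, Int.toNat_of_nonneg (Int.emod_nonneg _ hp0.ne'), ← horda, zpow_mod_orderOf]
  have hjp : j < p := by
    rw [hj]
    have := Int.emod_lt_of_pos (i₁ * v) hp0
    omega
  rw [haj] at h3
  refine ⟨g₂ * g₁⁻¹, ?_, j, ?_, h3.symm⟩
  · set g := g₂ * g₁⁻¹ with hg
    have haj1 : a ^ j ≠ 1 := fun h => he1 (by rw [h3, h, mul_one, mul_inv_cancel])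
    have hT : (MulAut.conj g • P : Sylow p G) = P := by
      refine (centralizer_facts hM hE h5 P he he1).2.2 _ ?_
      exact ⟨a ^ j, pow_mem ha j, h3.symm⟩
    exact Sylow.smul_eq_iff_mem_normalizer.1 hT
  · rw [Finset.mem_Icc]
    have : j ≠ 0 := fun h => he1 (by rw [h3, h, pow_zero, mul_one, mul_inv_cancel])
    omega

/-- The normalizer bound. -/
theorem card_sub_one_mul_le (P : Sylow p G) :
    (Nat.card (P : Subgroup G) - 1) * Nat.card (P : Subgroup G) ≤
      (p - 1) * Nat.card (normalizer (P : Set G)) := by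
  classical
  haveI := Fintype.ofFinite G
  set Pf : Finset G := Finset.univ.filter (fun x => x ∈ (P : Subgroup G)) with hPf
  set N : Finset G := Finset.univ.filter (fun x => x ∈ normalizer (P : Set G)) with hN
  have hcP : Pf.card = Nat.card (P : Subgroup G) := by
    rw [Nat.card_eq_fintype_card, ← Fintype.card_subtype]
  have hcN : N.card = Nat.card (normalizer (P : Set G)) := by
    rw [Nat.card_eq_fintype_card, ← Fintype.card_subtype]
  rcases eq_or_ne (P : Subgroup G) ⊥ with h | h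
  · simp [h]
  obtain ⟨a, ha, ha1⟩ := (bot_or_exists_ne_one _).resolve_left h
  let F : G × ℕ → G := fun t => t.1 * a ^ t.2 * t.1⁻¹
  have hfib : ∀ e ∈ Pf.erase 1, Pf.card ≤ ((N ×ˢ Finset.Icc 1 (p - 1)).filter fun t => F t = e).card := by
    intro e he
    obtain ⟨he1, heP⟩ := Finset.mem_erase.1 he
    obtain ⟨g, hg, j, hj, hge⟩ := exists_conj_pow hM hE h5 P ha ha1 (Finset.mem_filter.1 heP).2 he1
    refine Finset.card_le_card_of_injOn (fun x => (g * x, j)) (fun x hx => ?_)
      (fun x _ y _ hxy => mul_left_cancel (congrArg Prod.fst hxy))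
    have hxP : x ∈ (P : Subgroup G) := (Finset.mem_filter.1 hx).2
    refine Finset.mem_coe.2 (Finset.mem_filter.2 ⟨Finset.mem_product.2
      ⟨Finset.mem_filter.2 ⟨Finset.mem_univ _, mul_mem hg (Subgroup.le_normalizer hxP)⟩, hj⟩, ?_⟩)
    show g * x * a ^ j * (g * x)⁻¹ = e
    rw [mul_assoc g x, hE.comm P x hxP _ (pow_mem ha j), ← hge]
    group
  calc (Nat.card (P : Subgroup G) - 1) * Nat.card (P : Subgroup G)
      = (Pf.erase 1).card * Pf.card := by
        rw [Finset.card_erase_of_mem (Finset.mem_filter.2 ⟨Finset.mem_univ _, one_mem _⟩), hcP]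
    _ ≤ ∑ e ∈ Pf.erase 1, ((N ×ˢ Finset.Icc 1 (p - 1)).filter fun t => F t = e).card := by
        rw [← smul_eq_mul]
        exact Finset.card_nsmul_le_sum _ _ _ hfib
    _ ≤ (N ×ˢ Finset.Icc 1 (p - 1)).card := by
        rw [← Finset.card_biUnion (fun x _ y _ hxy => Finset.disjoint_left.2 fun t h1 h2 =>
          hxy ((Finset.mem_filter.1 h1).2.symm.trans (Finset.mem_filter.1 h2).2))]
        exact Finset.card_le_card fun t ht => by
          obtain ⟨e, -, h1⟩ := Finset.mem_biUnion.1 ht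
          exact (Finset.mem_filter.1 h1).1
    _ = _ := by rw [Finset.card_product, hcN, Nat.card_Icc, mul_comm]; congr 1

/-- Burnside transfer: the normalizer is bigger than the Sylow subgroup. -/
theorem two_mul_card_le (P : Sylow p G) (hP : (P : Subgroup G) ≠ ⊥) :
    2 * Nat.card (P : Subgroup G) ≤ Nat.card (normalizer (P : Set G)) := by
  haveI := hM.simple
  have hle : (P : Subgroup G) ≤ normalizer (P : Set G) := Subgroup.le_normalizer
  obtain ⟨k, hk⟩ := card_dvd_of_le hle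
  rcases Nat.lt_or_ge k 2 with h2 | h2
  · exfalso
    have hk1 : k = 1 := by
      have := Nat.card_pos (α := normalizer (P : Set G))
      rcases k with _ | _ | k
      · simp only [mul_zero] at hk; omega
      · rfl
      · omega
    have heq : (P : Subgroup G) = normalizer (P : Set G) :=
      eq_of_le_of_card_ge hle (by rw [hk, hk1, mul_one])
    have hNC : normalizer (P : Set G) ≤ centralizer ((P : Subgroup G) : Set G) := fun x hx =>
      mem_centralizer_iff.2 fun y hy => hE.comm P y hy x (heq.symm ▸ hx : x ∈ (P : Subgroup G))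
    have hcomp := MonoidHom.ker_transferSylow_isComplement' P hNC
    rcases IsSimpleGroup.eq_bot_or_eq_top_of_normal (MonoidHom.transferSylow P hNC).ker inferInstance
      with h | h
    · rw [h, isComplement'_bot_left] at hcomp
      have hn : (P : Subgroup G).Normal := by rw [hcomp]; infer_instance
      obtain ⟨b, hb, hb'⟩ := exists_outside hM hE h5 P hP
      exact hb' (hcomp ▸ mem_top b)
    · rw [h, isComplement'_top_left] at hcomp
      exact hP hcomp
  · rw [hk, mul_comm]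
    exact Nat.mul_le_mul le_rfl h2

/-- Degrees of nontrivial characters are at least the index of `P` in its normalizer. -/
theorem index_le_degree [Fintype G] (P : Sylow p G) (hP : (P : Subgroup G) ≠ ⊥) {χ : G → ℂ}
    (hχ : Cfsg.IsIrrCharacter G χ) (hfaith : Cfsg.Lib.Char.charKer hχ.isCharacter = ⊥) :
    ∃ n : ℕ, χ 1 = n ∧ (P : Subgroup G).relIndex (normalizer (P : Set G)) ≤ n := by
  classical
  set N := normalizer (P : Set G) with hN
  let T := N ⧸ (P : Subgroup G).subgroupOf N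
  haveI : Finite T := inferInstance
  obtain ⟨e⟩ : Nonempty (Fin (Nat.card T) ≃ T) := ⟨(Finite.equivFin T).symm⟩
  refine card_le_degree hχ hfaith (P : Subgroup G) (fun a ha b hb => hE.comm P a ha b hb) hP
    (fun i => ((e i).out : G)) (fun i => (e i).out.2) fun i j hij r hr hfix => ?_
  by_contra hr1
  apply hij
  apply e.injective
  rw [← (e i).out_eq, ← (e j).out_eq]
  refine QuotientGroup.eq.2 (mem_subgroupOf.2 ?_)
  refine mem_of_commute hM hE h5 P hr hr1 ?_
  exact mul_inv_eq_iff_eq_mul.1 hfix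

/-- Degrees of nontrivial characters are at least `p`. -/
theorem prime_le_degree [Fintype G] (P : Sylow p G) (hP : (P : Subgroup G) ≠ ⊥) {χ : G → ℂ}
    (hχ : Cfsg.IsIrrCharacter G χ) (hfaith : Cfsg.Lib.Char.charKer hχ.isCharacter = ⊥) :
    ∃ n : ℕ, χ 1 = n ∧ p ≤ n := by
  classical
  obtain ⟨a, ha, ha1⟩ := (bot_or_exists_ne_one _).resolve_left hP
  obtain ⟨b, hbp, hb⟩ := exists_outside hM hE h5 P hP
  set X := closure ({a, b} : Set G) with hX
  haveI := hM.pair a b
  have haX : a ∈ X := subset_closure (Set.mem_insert _ _)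
  have hbX : b ∈ X := subset_closure (Set.mem_insert_of_mem _ rfl)
  set K := Cfsg.pPrimeCore p X with hK
  have hKne : K ≠ ⊥ := by
    intro hbot
    obtain ⟨-, hcl, -⟩ := pair_facts hM hE h5 P ha ha1 hb hbp X haX hbX
    obtain ⟨k, hk, j, hj⟩ := hcl ⟨b, hbX⟩ (pEl_coe.1 hbp)
    rw [← hK, hbot, mem_bot] at hk
    subst hk
    simp only [one_mul, inv_one, mul_one] at hj
    exact hb (hj ▸ zpow_mem ha j)
  obtain ⟨R, hR, hRK⟩ := Cfsg.Lib.Core.exists_isMinNormal (N := K) inferInstance hKne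
  haveI : Group.IsSolvable R := inferInstance
  have hRc := Cfsg.Lib.Core.isMulCommutative_of_minimal_solvable hR inferInstance
  haveI := hR.1
  refine card_le_degree hχ hfaith (R.map X.subtype) ?_ ?_ (fun i : Fin p => a ^ (i : ℕ)) ?_ ?_
  · rintro _ ⟨x, hx, rfl⟩ _ ⟨y, hy, rfl⟩
    exact congrArg (fun z : R => ((z : X) : G)) (hRc.is_comm.comm ⟨x, hx⟩ ⟨y, hy⟩)
  · exact fun h => hR.2.1 ((map_eq_bot_iff_of_injective R X.subtype_injective).1 h)
  · intro i
    refine mem_normalizer_fintype ?_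
    rintro _ ⟨x, hx, rfl⟩
    exact ⟨⟨a, haX⟩ ^ (i : ℕ) * x * (⟨a, haX⟩ ^ (i : ℕ))⁻¹, Subgroup.Normal.conj_mem inferInstance x hx _,
      by simp⟩
  · rintro i j hij _ ⟨x, hx, rfl⟩ hfix
    by_contra hx1
    set c := (a ^ (i : ℕ))⁻¹ * a ^ (j : ℕ) with hc
    have hcP : c ∈ (P : Subgroup G) := mul_mem (inv_mem (pow_mem ha _)) (pow_mem ha _)
    have hc1 : c ≠ 1 := by
      rw [hc, Ne, inv_mul_eq_one]
      intro h
      refine hij (Fin.ext (pow_injOn_Iio_orderOf (x := a) ?_ ?_ h))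
      all_goals simp [orderOf_eq_prime (hE.pow P a ha) ha1]
    have hxP := mem_of_commute hM hE h5 P hcP hc1 (mul_inv_eq_iff_eq_mul.1 hfix).symm
    exact hx1 ((pEl_of_mem P.2 hxP).eq_one
      (Nat.Coprime.coprime_dvd_left (by rw [coe_subtype, orderOf_coe]; exact Subgroup.orderOf_dvd_natCard K (hRK hx))
        (Cfsg.Lib.Core.pPrimeCore_coprime p X)))

open scoped Classical in
/-- The nontrivial `p`-elements. -/
noncomputable def pSet [Fintype G] (p : ℕ) : Finset G :=
  Finset.univ.filter fun x => x ≠ 1 ∧ PEl p x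

end Cfsg.Lib.TwoGen
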