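import Cfsg.Agent.Lib.TwoGen.Centralizer
import Cfsg.Agent.Lib.Solv.Frobenius

/-!
# Two generated subgroups solvable: `p`-elements are centralised by `p`-elements only

In a solvable subgroup containing `p`-elements from two Sylow subgroups, the centralizer of one of
them in `O_{p'}` is a Frobenius complement; the closure trick then shows that it is trivial.
-/

set_option autoImplicit false
set_option linter.style.haveILetI false
set_option linter.unusedSectionVars false

namespace Cfsg.Lib.TwoGen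

open Subgroup
open scoped Pointwise

universe u

variable {G : Type u} [Group G] [Finite G] {p : ℕ} [hp : Fact p.Prime]

/-- A product of a `p`-element and a commuting nontrivial element of order prime to `p`. -/
def Mixed (p : ℕ) (g : G) : Prop :=
  ∃ a u c : G, a ≠ 1 ∧ PEl p a ∧ u ∈ zpowers a ∧ a * c = c * a ∧ c ≠ 1 ∧ (orderOf c).Coprime p ∧
    g = u * c

omit [Finite G] hp in
theorem mixed_conj {g : G} (h : Mixed p g) (x : G) : Mixed p (x * g * x⁻¹) := by
  obtain ⟨a, u, c, ha1, hap, hu, hac, hc1, hc, rfl⟩ := h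
  refine ⟨x * a * x⁻¹, x * u * x⁻¹, x * c * x⁻¹, fun h => ha1 (by simpa [mul_inv_eq_one] using h),
    hap.conj x, ?_, ?_, fun h => hc1 (by simpa [mul_inv_eq_one] using h), ?_, by group⟩
  · obtain ⟨j, rfl⟩ := hu
    exact ⟨j, by simp⟩
  · have h2 := congrArg (fun z => x * z * x⁻¹) hac
    simpa [mul_assoc] using h2
  · rwa [show x * c * x⁻¹ = MulAut.conj x c from rfl, MulEquiv.orderOf_eq]

variable (hM : Min G) (hE : Elem G p) (h5 : 5 ≤ p)
include hM hE h5

/-- An element of order prime to `p` centralising a nontrivial `p`-element is a power of each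
product with a commuting `p`-element. -/
theorem mem_zpowers_mul {u c : G} (hu : PEl p u) (huc : u * c = c * u) (hc : (orderOf c).Coprime p) :
    c ∈ zpowers (u * c) := by
  obtain ⟨j, hj⟩ : c ∈ zpowers (c ^ p) := mem_zpowers_pow_iff.mpr hc.symm
  have h1 : (u * c) ^ p = c ^ p := by rw [Commute.mul_pow huc, hE.pow_eq_one hu, one_mul]
  have h2 : (c ^ p) ^ j ∈ zpowers (u * c) := zpow_mem (h1 ▸ pow_mem (mem_zpowers (u * c)) p) j
  exact (congrArg (fun z => z ∈ zpowers (u * c)) hj).mp h2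

/-- The centralizer in `O_{p'}` of an element of a pair from different Sylow subgroups contains the
centralizers of its nontrivial elements. -/
theorem centralizer_le_of_pair (P : Sylow p G) {a b : G} (ha : a ∈ (P : Subgroup G)) (ha1 : a ≠ 1)
    (hb : b ∉ (P : Subgroup G)) (hbp : PEl p b) (X : Subgroup G) [Group.IsSolvable X]
    (haX : a ∈ X) (hbX : b ∈ X) {c κ : X} (hc1 : c ≠ 1) (hc : (orderOf (c : G)).Coprime p)
    (hca : (c : G) * a = a * (c : G)) (hκ : κ ∈ Cfsg.pPrimeCore p X) (hκc : κ * c = c * κ) :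
    (κ : G) * a = a * (κ : G) := by
  obtain ⟨hcN, hPC, -⟩ := centralizer_facts hM hE h5 P ha ha1
  have hcN' : (c : G) ∈ normalizer (P : Set G) := hcN (mem_centralizer_singleton_iff.2 hca)
  have hap : PEl p a := pEl_of_mem P.2 ha
  by_cases hb' : (κ : G) * a * (κ : G)⁻¹ ∈ (P : Subgroup G)
  · -- the Sylow subgroups of `X` meet `P` in `⟨a⟩`, so `κ` fixes `a`
    obtain ⟨j, hj⟩ := (pair_facts hM hE h5 P ha ha1 hb hbp X haX hbX).1
      ⟨(κ : G) * a * (κ : G)⁻¹, mul_mem (mul_mem κ.2 haX) (inv_mem κ.2)⟩ hb'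
    set A : X := ⟨a, haX⟩ with hA
    have hj' : κ * A * κ⁻¹ = A ^ j := Subtype.ext (by simpa using hj.symm)
    have h1 : κ * A * κ⁻¹ * A⁻¹ = 1 := by
      refine PEl.eq_one_of_mem (p := p) (Cfsg.Lib.Core.pPrimeCore_coprime p X) ?_ ?_
      · obtain ⟨P', hP'⟩ := (pEl_coe.1 hap : PEl p A).exists_sylow
        rw [hj']
        exact pEl_of_mem P'.2 (mul_mem (zpow_mem hP' j) (inv_mem hP'))
      · rw [show κ * A * κ⁻¹ * A⁻¹ = κ * (A * κ⁻¹ * A⁻¹) by group]
        exact mul_mem hκ (Subgroup.Normal.conj_mem inferInstance _ (inv_mem hκ) A)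
    rw [mul_inv_eq_one, mul_inv_eq_iff_eq_mul] at h1
    simpa [A] using congrArg Subtype.val h1
  · exfalso
    set b' := (κ : G) * a * (κ : G)⁻¹ with hb'def
    have hb'p : PEl p b' := hap.conj _
    have hb'c : b' * (c : G) = (c : G) * b' := by
      have e1 : (κ : G) * (c : G) = (c : G) * (κ : G) := congrArg Subtype.val hκc
      have e2 : (κ : G)⁻¹ * (c : G) = (c : G) * (κ : G)⁻¹ := (Commute.inv_left e1).eq
      rw [hb'def, mul_assoc, e2, ← mul_assoc, mul_assoc (κ : G) a, ← hca, ← mul_assoc, e1]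
      group
    have key : ∀ f ∈ (P : Subgroup G), f ≠ 1 → ∃ i : ℤ, (c : G) * f * (c : G)⁻¹ = f ^ i := by
      intro f hf hf1
      set Y := closure ({f, b' * (c : G)} : Set G) with hY
      haveI := hM.pair f (b' * (c : G))
      have hfY : f ∈ Y := subset_closure (Set.mem_insert _ _)
      have hbcY : b' * (c : G) ∈ Y := subset_closure (Set.mem_insert_of_mem _ rfl)
      have hcY : (c : G) ∈ Y := (zpowers_le.2 hbcY) (mem_zpowers_mul hM hE h5 hb'p hb'c hc)
      have hbY : b' ∈ Y := by simpa using mul_mem hbcY (inv_mem hcY)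
      obtain ⟨i, hi⟩ := (pair_facts hM hE h5 P hf hf1 hb' hb'p Y hfY hbY).1
        ⟨(c : G) * f * (c : G)⁻¹, mul_mem (mul_mem hcY hfY) (inv_mem hcY)⟩
        ((mem_normalizer_iff.1 hcN' f).1 hf)
      exact ⟨i, hi.symm⟩
    have hfix : ∀ f ∈ (P : Subgroup G), (c : G) * f * (c : G)⁻¹ = f := by
      intro f hf
      by_cases hfa : f ∈ zpowers a
      · obtain ⟨j, rfl⟩ := hfa
        show (c : G) * a ^ j * (c : G)⁻¹ = a ^ j
        rw [(Commute.zpow_right (hca : Commute (c : G) a) j).eq, mul_inv_cancel_right]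
      have hf1 : f ≠ 1 := fun h => hfa (h ▸ one_mem _)
      have haf1 : a * f ≠ 1 := fun h => hfa (by
        rw [eq_inv_of_mul_eq_one_right h]; exact inv_mem (mem_zpowers a))
      obtain ⟨i, hi⟩ := key f hf hf1
      obtain ⟨k, hk⟩ := key (a * f) (mul_mem ha hf) haf1
      have hcomm : Commute a f := hE.comm P a ha f hf
      have h1 : a * f ^ i = a ^ k * f ^ k := by
        rw [← hcomm.mul_zpow, ← hk, ← hi, ← mul_assoc, ← mul_assoc (a) _, ← mul_assoc (c : G)]
        rw [hca]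
      have h2 : a ^ (k - 1) = f ^ (i - k) := by
        rw [zpow_sub, zpow_sub, zpow_one]
        have e1 : a ^ k = a * f ^ i * (f ^ k)⁻¹ := eq_mul_inv_of_mul_eq h1.symm
        rw [e1, mul_assoc a (f ^ i), ((hcomm.zpow_right i).mul_right ((hcomm.zpow_right k).inv_right)).eq,
          mul_inv_cancel_right]
      have hord : orderOf f = p := orderOf_eq_prime (hE.pow P f hf) hf1
      by_cases hik : (p : ℤ) ∣ i - k
      · have h3 : f ^ (i - k) = 1 := orderOf_dvd_iff_zpow_eq_one.1 (hord.symm ▸ hik)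
        rw [h3] at h2
        have hk1 : (p : ℤ) ∣ k - 1 := by
          rw [← orderOf_eq_prime (hE.pow P a ha) ha1]; exact orderOf_dvd_iff_zpow_eq_one.2 h2
        have hi1 : f ^ (i - 1) = 1 := by
          refine orderOf_dvd_iff_zpow_eq_one.1 (hord.symm ▸ ?_)
          have := dvd_add hik hk1
          simpa using this
        rw [hi]
        rw [zpow_sub, zpow_one, mul_inv_eq_one] at hi1
        exact hi1
      · exfalso
        apply hfa
        obtain ⟨u, v, huv⟩ := ((Nat.prime_iff_prime_int.1 hp.out).coprime_iff_not_dvd.2 hik)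
        have : f = a ^ ((k - 1) * v) := by
          calc f = f ^ ((p : ℤ) * u + (i - k) * v) := by
                rw [show (p : ℤ) * u + (i - k) * v = 1 by rw [← huv]; ring, zpow_one]
            _ = a ^ ((k - 1) * v) := by
                rw [zpow_add, zpow_mul _ (p : ℤ), zpow_natCast, hE.pow P f hf, one_zpow, one_mul,
                  zpow_mul, zpow_mul, h2]
        exact ⟨_, this.symm⟩
    have hcP : (c : G) ∈ (P : Subgroup G) := hPC (mem_centralizer_iff.2 fun f hf => by
      have := hfix f hf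
      rw [mul_inv_eq_iff_eq_mul] at this
      exact this.symm)
    exact hc1 (Subtype.ext ((pEl_of_mem P.2 hcP).eq_one hc))

/-- Elements of order prime to `p` centralise no nontrivial `p`-element. -/
theorem eq_one_of_commute {a c : G} (ha1 : a ≠ 1) (hap : PEl p a) (hac : a * c = c * a)
    (hc : (orderOf c).Coprime p) : c = 1 := by
  classical
  haveI := hM.simple
  by_contra hc1
  refine closure_trick (T := {t : G | t ≠ 1 ∧ PEl p t}) (S := {g : G | Mixed p g})
    (fun t ht g => ⟨fun h => ht.1 (by simpa [mul_inv_eq_one] using h), ht.2.conj g⟩)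
    (t₀ := a) ⟨ha1, hap⟩ ha1 (s₀ := c)
    ⟨a, 1, c, ha1, hap, one_mem _, hac, hc1, hc, (one_mul c).symm⟩ ?_ ?_
  · rintro ⟨a, u, c, ha1, hap, ⟨j, rfl⟩, hac, hc1, hc, h⟩
    refine hc1 (PEl.eq_one ?_ hc)
    rw [eq_inv_of_mul_eq_one_right h.symm]
    obtain ⟨P, hP⟩ := hap.exists_sylow
    exact pEl_of_mem P.2 (inv_mem (zpow_mem hP j))
  rintro b ⟨hb1, hbp⟩ g ⟨a, u, c, ha1, hap, hu, hac, hc1, hc, rfl⟩
  obtain ⟨P, haP⟩ := hap.exists_sylow
  have huP : u ∈ (P : Subgroup G) := (zpowers_le.2 haP) hu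
  have hcN : c ∈ normalizer (P : Set G) :=
    (centralizer_facts hM hE h5 P haP ha1).1 (mem_centralizer_singleton_iff.2 hac.symm)
  by_cases hbP : b ∈ (P : Subgroup G)
  · -- inside the normalizer: conjugate to a commuting product
    set e := b * u with he
    have heP : e ∈ (P : Subgroup G) := mul_mem hbP huP
    let ψ : (P : Subgroup G) →* (P : Subgroup G) :=
      MonoidHom.mk' (fun x => ⟨(x : G) * (c * (x : G)⁻¹ * c⁻¹),
        mul_mem x.2 ((mem_normalizer_iff.1 hcN _).1 (inv_mem x.2))⟩) fun x y => Subtype.ext (by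
        show (x : G) * y * (c * ((x : G) * y)⁻¹ * c⁻¹) =
          (x : G) * (c * (x : G)⁻¹ * c⁻¹) * ((y : G) * (c * (y : G)⁻¹ * c⁻¹))
        have h1 : Commute (c * (x : G)⁻¹ * c⁻¹) ((y : G) * (c * (y : G)⁻¹ * c⁻¹)) :=
          hE.comm P _ ((mem_normalizer_iff.1 hcN _).1 (inv_mem x.2)) _
            (mul_mem y.2 ((mem_normalizer_iff.1 hcN _).1 (inv_mem y.2)))
        rw [mul_assoc (x : G) (c * (x : G)⁻¹ * c⁻¹), h1.eq]
        group)
    have hdis : Disjoint ψ.range ψ.ker := by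
      rw [disjoint_iff, eq_bot_iff]
      rintro w ⟨⟨x, rfl⟩, hw⟩
      replace hw : ψ (ψ x) = 1 := hw
      have hw' : (ψ x : G) * (c * (ψ x : G)⁻¹ * c⁻¹) = 1 := congrArg Subtype.val hw
      rw [mul_eq_one_iff_eq_inv] at hw'
      set w : G := (ψ x : G) with hwdef
      have hwc : Commute c w := by
        show c * w = w * c
        calc c * w = (c * w⁻¹ * c⁻¹)⁻¹ * c := by group
          _ = w * c := by rw [← hw']
      have hstep : ∀ n : ℕ, c ^ n * (x : G)⁻¹ * (c ^ n)⁻¹ = (x : G)⁻¹ * w ^ n := by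
        intro n
        induction n with
        | zero => simp
        | succ n ih =>
          have e1 : c * (x : G)⁻¹ * c⁻¹ = (x : G)⁻¹ * w := by
            show _ = (x : G)⁻¹ * ((x : G) * (c * (x : G)⁻¹ * c⁻¹))
            group
          have e2 : c * w ^ n * c⁻¹ = w ^ n := by rw [(hwc.pow_right n).eq, mul_inv_cancel_right]
          calc c ^ (n + 1) * (x : G)⁻¹ * (c ^ (n + 1))⁻¹
              = c * (c ^ n * (x : G)⁻¹ * (c ^ n)⁻¹) * c⁻¹ := by rw [pow_succ']; group
            _ = (c * (x : G)⁻¹ * c⁻¹) * (c * w ^ n * c⁻¹) := by rw [ih]; group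
            _ = (x : G)⁻¹ * w ^ (n + 1) := by rw [e1, e2, pow_succ', mul_assoc]
      have hwn := hstep (orderOf c)
      rw [pow_orderOf_eq_one, inv_one, mul_one, one_mul, left_eq_mul] at hwn
      exact mem_bot.2 (Subtype.ext ((pEl_of_mem P.2 (ψ x).2).eq_one
        (Nat.Coprime.coprime_dvd_left (orderOf_dvd_of_pow_eq_one hwn) hc)))
    have hcomp : IsComplement' ψ.range ψ.ker := by
      refine isComplement'_of_card_mul_and_disjoint ?_ hdis
      rw [← ψ.ker.card_mul_index, ← Subgroup.index_ker ψ, mul_comm]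
    obtain ⟨r, hr, f, hf, hrf⟩ := Set.mem_mul.1 (hcomp.mul_eq ▸ Set.mem_univ (⟨e, heP⟩ : (P : Subgroup G)))
    obtain ⟨x, rfl⟩ := hr
    have hf' : (f : G) * c = c * (f : G) := by
      have h1 : (f : G) * (c * (f : G)⁻¹ * c⁻¹) = 1 := congrArg Subtype.val (MonoidHom.mem_ker.1 hf)
      rw [mul_eq_one_iff_eq_inv] at h1
      nth_rewrite 1 [h1]
      group
    have hconj : b * (u * c) = (x : G) * ((f : G) * c) * (x : G)⁻¹ := by
      have h1 : (x : G) * (c * (x : G)⁻¹ * c⁻¹) * (f : G) = e := congrArg Subtype.val hrf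
      have h2 : Commute (f : G) ((x : G) * (c * (x : G)⁻¹ * c⁻¹)) :=
        hE.comm P _ f.2 _ (mul_mem x.2 ((mem_normalizer_iff.1 hcN _).1 (inv_mem x.2)))
      have h3 : Commute (f : G) (x : G) := hE.comm P _ f.2 _ x.2
      calc b * (u * c) = e * c := by rw [he, mul_assoc]
        _ = (f : G) * ((x : G) * (c * (x : G)⁻¹ * c⁻¹)) * c := by rw [← h1, h2.eq]
        _ = ((f : G) * (x : G)) * c * (x : G)⁻¹ := by group
        _ = ((x : G) * (f : G)) * c * (x : G)⁻¹ := by rw [h3.eq]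
        _ = _ := by group
    rw [hconj]
    refine mixed_conj ?_ _
    by_cases hf1 : (f : G) = 1
    · exact ⟨a, 1, c, ha1, hap, one_mem _, hac, hc1, hc, by rw [hf1]⟩
    · exact ⟨f, f, c, hf1, pEl_of_mem P.2 f.2, mem_zpowers _, hf', hc1, hc, rfl⟩
  · set X := closure ({b, a * c} : Set G) with hX
    haveI := hM.pair b (a * c)
    have hbX : b ∈ X := subset_closure (Set.mem_insert _ _)
    have hacX : a * c ∈ X := subset_closure (Set.mem_insert_of_mem _ rfl)
    have hcX : c ∈ X := (zpowers_le.2 hacX) (mem_zpowers_mul hM hE h5 hap hac hc)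
    have haX : a ∈ X := by simpa using mul_mem hacX (inv_mem hcX)
    obtain ⟨-, hcl, hcK'⟩ := pair_facts hM hE h5 P haP ha1 hbP hbp X haX hbX
    set K := Cfsg.pPrimeCore p X with hK
    set A : X := ⟨a, haX⟩ with hA
    set C : X := ⟨c, hcX⟩ with hC
    have hCK : C ∈ K := hcK' C hac.symm hc
    let C0 : Subgroup K := (centralizer ({A} : Set X)).subgroupOf K
    have hC0 : ∀ z : K, z ∈ C0 ↔ (z : X) * A = A * (z : X) := fun z => by
      rw [mem_subgroupOf, mem_centralizer_singleton_iff]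
    obtain ⟨k, hk, hkb⟩ := hcl ⟨b, hbX⟩ (pEl_coe.1 hbp)
    obtain ⟨j, hj⟩ := hkb
    have hkA : k * ⟨b, hbX⟩ * k⁻¹ = A ^ j := Subtype.ext (by simpa [A] using hj.symm)
    have hne : C0 ≠ ⊥ := fun h => by
      have h1 : (⟨C, hCK⟩ : K) ∈ C0 := (hC0 _).2 (Subtype.ext hac.symm)
      rw [h, mem_bot] at h1
      exact hc1 (congrArg (fun z : K => ((z : X) : G)) h1)
    have hntop : C0 ≠ ⊤ := fun h => by
      refine hbP ?_
      have h1 : k * A ^ j = A ^ j * k :=
        (Commute.zpow_right ((hC0 ⟨k, hk⟩).1 (h ▸ mem_top _) : Commute k A) j).eq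
      have h2 : (⟨b, hbX⟩ : X) = A ^ j := by
        rw [mul_inv_eq_iff_eq_mul, ← h1] at hkA
        exact mul_left_cancel hkA
      have h3 : b = a ^ j := by simpa [A] using congrArg Subtype.val h2
      exact h3 ▸ zpow_mem haP j
    have hCle : ∀ z h : K, h ∈ C0 → h ≠ 1 → z * h = h * z → z ∈ C0 := by
      intro z h hh hh1 hzh
      rw [hC0]
      refine Subtype.ext (centralizer_le_of_pair hM hE h5 P haP ha1 hbP hbp X haX hbX (c := (h : X))
        (fun e => hh1 (Subtype.ext e)) ?_ (congrArg Subtype.val ((hC0 h).1 hh)) z.2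
        (congrArg Subtype.val hzh))
      refine Nat.Coprime.coprime_dvd_left ?_ (Cfsg.Lib.Core.pPrimeCore_coprime p X)
      rw [orderOf_coe]
      exact Subgroup.orderOf_dvd_natCard K h.2
    have hfrob : Cfsg.IsFrobeniusComplement C0 := by
      refine ⟨hne, hntop, fun z hz => ?_⟩
      rw [eq_bot_iff]
      rintro h ⟨hh, hh'⟩
      rw [mem_bot]
      by_contra h1
      apply hz
      replace hh' : h ∈ MulAut.conj z • C0 := hh'
      rw [mem_pointwise_smul_iff_inv_smul_mem, ← map_inv, MulAut.smul_def,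
        MulAut.conj_apply, inv_inv] at hh'
      set A' := (A : X)
      have e1 : (z : X)⁻¹ * h * z * A' = A' * ((z : X)⁻¹ * h * z) := (hC0 _).1 hh'
      have e2 : (h : X) * A' = A' * h := (hC0 h).1 hh
      set d : K := ⟨(z : X) * (A' * (z : X)⁻¹ * A'⁻¹),
        mul_mem z.2 (Subgroup.Normal.conj_mem inferInstance _ (inv_mem z.2) A')⟩ with hd
      have hdh : d * h = h * d := Subtype.ext (by
        show (z : X) * (A' * (z : X)⁻¹ * A'⁻¹) * h = h * ((z : X) * (A' * (z : X)⁻¹ * A'⁻¹))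
        calc (z : X) * (A' * (z : X)⁻¹ * A'⁻¹) * h
            = (z : X) * A' * (z : X)⁻¹ * (A'⁻¹ * h) := by group
          _ = (z : X) * A' * (z : X)⁻¹ * (h * A'⁻¹) := by rw [(Commute.inv_right (e2 : Commute (h : X) A')).eq]
          _ = (z : X) * (A' * ((z : X)⁻¹ * h * z)) * (z : X)⁻¹ * A'⁻¹ := by group
          _ = (z : X) * ((z : X)⁻¹ * h * z * A') * (z : X)⁻¹ * A'⁻¹ := by rw [e1]
          _ = _ := by group)
      have hd0 : (d : X) * A' = A' * d := (hC0 d).1 (hCle d h hh h1 hdh)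
      have hiter : ∀ n : ℕ, A' ^ n * (z : X)⁻¹ * (A' ^ n)⁻¹ = (z : X)⁻¹ * (d : X) ^ n := by
        intro n
        induction n with
        | zero => simp
        | succ n ih =>
          have f1 : A' * (z : X)⁻¹ * A'⁻¹ = (z : X)⁻¹ * (d : X) := by rw [hd]; group
          have f2 : A' * (d : X) ^ n * A'⁻¹ = (d : X) ^ n := by
            rw [((Commute.pow_left (hd0 : Commute (d : X) A') n)).eq.symm, mul_inv_cancel_right]
          calc A' ^ (n + 1) * (z : X)⁻¹ * (A' ^ (n + 1))⁻¹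
              = A' * (A' ^ n * (z : X)⁻¹ * (A' ^ n)⁻¹) * A'⁻¹ := by rw [pow_succ']; group
            _ = (A' * (z : X)⁻¹ * A'⁻¹) * (A' * (d : X) ^ n * A'⁻¹) := by rw [ih]; group
            _ = _ := by rw [f1, f2, pow_succ', mul_assoc]
      have hAp : A' ^ p = 1 := Subtype.ext (by simpa using hE.pow P a haP)
      have hp' := hiter p
      rw [hAp, inv_one, mul_one, one_mul, left_eq_mul] at hp'
      have hd1 : (d : X) = 1 := (PEl.eq_one_of_mem (Cfsg.Lib.Core.pPrimeCore_coprime p X)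
        ⟨1, by rw [pow_one]; exact hp'⟩ d.2)
      rw [hC0]
      have hAz : A' * (z : X)⁻¹ = (z : X)⁻¹ * A' := by
        have h2 : (z : X) * (A' * (z : X)⁻¹ * A'⁻¹) = 1 := hd1
        rw [mul_eq_one_iff_inv_eq] at h2
        exact mul_inv_eq_iff_eq_mul.1 h2.symm
      simpa using ((Commute.inv_right_iff).1 (hAz : Commute A' (z : X)⁻¹)).eq.symm
    obtain ⟨F, hFset, hFn, hFc⟩ := Cfsg.Lib.Solv.frobenius_theorem hfrob
    haveI := hFn
    obtain ⟨f, hf, c0, hc0, hfc⟩ := Set.mem_mul.1 (hFc.mul_eq ▸ Set.mem_univ (⟨k, hk⟩⁻¹ : K))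
    -- the kernel is invariant under the centralizer of `a` in `X`
    have hinv : ∀ (y : X), y * A = A * y → ∀ w ∈ F,
        (⟨y * (w : X) * y⁻¹, Subgroup.Normal.conj_mem inferInstance _ w.2 y⟩ : K) ∈ F := by
      intro y hy w hw
      rw [← SetLike.mem_coe, hFset] at hw ⊢
      rcases hw with h1 | h1
      · left; subst h1; exact Subtype.ext (by simp)
      · right
        intro s hs
        rw [mem_pointwise_smul_iff_inv_smul_mem, ← map_inv, MulAut.smul_def, MulAut.conj_apply, inv_inv,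
          hC0] at hs
        refine h1 ⟨y⁻¹ * (s : X) * y, Subgroup.Normal.conj_mem' inferInstance _ s.2 y⟩ ?_
        rw [mem_pointwise_smul_iff_inv_smul_mem, ← map_inv, MulAut.smul_def, MulAut.conj_apply, inv_inv,
          hC0]
        have hyA : Commute y A := hy
        have h4 : ((y⁻¹ * (s : X) * y)⁻¹ * (w : X) * (y⁻¹ * (s : X) * y)) =
            y⁻¹ * ((s : X)⁻¹ * (y * (w : X) * y⁻¹) * (s : X)) * y := by group
        show ((y⁻¹ * (s : X) * y)⁻¹ * (w : X) * (y⁻¹ * (s : X) * y)) * A =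
          A * ((y⁻¹ * (s : X) * y)⁻¹ * (w : X) * (y⁻¹ * (s : X) * y))
        rw [h4]
        have hs' : Commute ((s : X)⁻¹ * (y * (w : X) * y⁻¹) * (s : X)) A := hs
        exact (((hyA.inv_left).mul_left hs').mul_left hyA).eq
    obtain ⟨i, rfl⟩ := hu
    set y : X := A ^ (j + i) * C with hy
    have hAC : Commute A C := Subtype.ext hac
    have hyA : y * A = A * y := (((Commute.refl A).zpow_left _).mul_left hAC.symm).eq
    let φ : F → F := fun w => ⟨⟨y⁻¹ * (w : X) * y,
        Subgroup.Normal.conj_mem' inferInstance _ (w : K).2 y⟩ * (w : K)⁻¹, by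
      refine mul_mem ?_ (inv_mem w.2)
      have hyA' : Commute y⁻¹ A := Commute.inv_left (show Commute y A from hyA)
      simpa using hinv y⁻¹ hyA'.eq w w.2⟩
    have hφ : Function.Injective φ := by
      intro w₁ w₂ hw
      have h1 : y⁻¹ * (w₁ : X) * y * (w₁ : X)⁻¹ = y⁻¹ * (w₂ : X) * y * (w₂ : X)⁻¹ :=
        congrArg (fun z : F => ((z : K) : X)) hw
      set w : F := w₂⁻¹ * w₁ with hwdef
      have h2 : y * (w : X) = (w : X) * y := by
        show y * ((w₂ : X)⁻¹ * (w₁ : X)) = (w₂ : X)⁻¹ * (w₁ : X) * y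
        have h3 := congrArg (fun z => (w₂ : X)⁻¹ * y * z * (w₁ : X)) h1
        simp only [mul_assoc, mul_inv_cancel_left, inv_mul_cancel, mul_one] at h3 ⊢
        simpa [mul_assoc] using h3.symm
      have h4 : (w : X) * C = C * (w : X) := by
        have hmem : C ∈ zpowers y := by
          have h5' : c ∈ zpowers (a ^ (j + i) * c) := mem_zpowers_mul hM hE h5
            (pEl_of_mem P.2 (zpow_mem haP _))
            (Commute.zpow_left (hac : Commute a c) _).eq hc
          obtain ⟨n, hn⟩ := h5'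
          exact ⟨n, Subtype.ext (by simpa [hy, A, C] using hn)⟩
        obtain ⟨n, hn⟩ := hmem
        rw [← hn]
        exact ((Commute.zpow_left (h2 : Commute y (w : X)) n).symm).eq
      have h6 : (w : K) ∈ C0 := hCle (w : K) ⟨C, hCK⟩ ((hC0 _).2 (Subtype.ext hac.symm))
        (fun e => hc1 (congrArg (fun z : K => ((z : X) : G)) e)) (Subtype.ext h4)
      have h7 : (w : K) = 1 := by
        have := hFc.disjoint.le_bot ⟨w.2, h6⟩
        simpa using this
      have h8 : w = 1 := Subtype.ext h7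
      rw [hwdef, inv_mul_eq_one] at h8
      exact h8.symm
    have hφs : Function.Surjective φ := Finite.surjective_of_injective hφ
    set f1 : K := ⟨(A ^ j)⁻¹ * (f : X) * A ^ j, Subgroup.Normal.conj_mem' inferInstance _ f.2 _⟩ * f⁻¹
      with hf1
    have hf1F : f1 ∈ F := by
      refine mul_mem ?_ (inv_mem hf)
      simpa using hinv (A ^ j)⁻¹ ((Commute.refl A).zpow_left j).inv_left.eq f hf
    obtain ⟨w, hw⟩ := hφs ⟨_, hinv ((A ^ i * C)⁻¹)
      ((((Commute.refl A).zpow_left i).mul_left hAC.symm).inv_left.eq) f1 hf1F⟩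
    have hw' : y⁻¹ * (w : X) * y * (w : X)⁻¹ = (A ^ i * C)⁻¹ * (f1 : X) * ((A ^ i * C)⁻¹)⁻¹ :=
      congrArg (fun z : F => ((z : K) : X)) hw
    have hb2 : (⟨b, hbX⟩ : X) = A ^ j * (f1 : X) := by
      have hc0A : Commute (c0 : X) (A ^ j) := Commute.zpow_right ((hC0 c0).1 hc0) j
      have hk' : k⁻¹ = (f : X) * (c0 : X) := congrArg Subtype.val hfc.symm
      calc (⟨b, hbX⟩ : X) = k⁻¹ * (k * ⟨b, hbX⟩ * k⁻¹) * k⁻¹⁻¹ := by group
        _ = (f : X) * ((c0 : X) * A ^ j) * ((f : X) * (c0 : X))⁻¹ := by rw [hkA, hk']; group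
        _ = (f : X) * (A ^ j * (c0 : X)) * ((f : X) * (c0 : X))⁻¹ := by rw [hc0A.eq]
        _ = A ^ j * ((A ^ j)⁻¹ * (f : X) * A ^ j * (f : X)⁻¹) := by group
        _ = _ := rfl
    have hfin : (⟨b, hbX⟩ : X) * (A ^ i * C) = (w : X) * y * (w : X)⁻¹ := by
      calc (⟨b, hbX⟩ : X) * (A ^ i * C) = A ^ j * (f1 : X) * (A ^ i * C) := by rw [hb2]
        _ = (A ^ j * (A ^ i * C)) * ((A ^ i * C)⁻¹ * (f1 : X) * ((A ^ i * C)⁻¹)⁻¹) := by group
        _ = y * (y⁻¹ * (w : X) * y * (w : X)⁻¹) := by rw [← hw', hy, zpow_add]; group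
        _ = _ := by group
    have hval : b * (a ^ i * c) = ((w : X) : G) * (a ^ (j + i) * c) * ((w : X) : G)⁻¹ := by
      simpa [hy, A, C] using congrArg Subtype.val hfin
    show Mixed p _
    rw [hval]
    exact mixed_conj ⟨a, a ^ (j + i), c, ha1, hap, ⟨j + i, rfl⟩, hac, hc1, hc, rfl⟩ _

/-- The centralizer of a nontrivial element of a Sylow subgroup is that subgroup. -/
theorem mem_of_commute (P : Sylow p G) {a x : G} (ha : a ∈ (P : Subgroup G)) (ha1 : a ≠ 1)
    (hxa : x * a = a * x) : x ∈ (P : Subgroup G) := by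
  obtain ⟨u, v, hu, hv, hx, hup, hv'⟩ := exists_split (p := p) x
  have hcomm : ∀ z ∈ zpowers x, z * a = a * z := by
    rintro _ ⟨n, rfl⟩
    exact (Commute.zpow_left (hxa : Commute x a) n).eq
  have hv1 : v = 1 := eq_one_of_commute hM hE h5 ha1 (pEl_of_mem P.2 ha) (hcomm v hv).symm hv'
  rw [hx, hv1, mul_one]
  by_cases hu1 : u = 1
  · rw [hu1]; exact one_mem _
  obtain ⟨P', hP'⟩ := hup.exists_sylow
  have haP' : a ∈ (P' : Subgroup G) := by
    have hN := (centralizer_facts hM hE h5 P' hP' hu1).1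
      (mem_centralizer_singleton_iff.2 (hcomm u hu).symm)
    have h2 : IsPGroup p ((P' : Subgroup G) ⊔ zpowers a : Subgroup G) :=
      IsPGroup.to_sup_of_normal_left' P'.2 (pEl_of_mem P.2 ha).isPGroup (zpowers_le.2 hN)
    exact P'.3 h2 le_sup_left ▸ mem_sup_right (mem_zpowers a)
  rw [← (centralizer_facts hM hE h5 P ha ha1).2.2 P' haP']
  exact hP'

end Cfsg.Lib.TwoGen
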