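import Cfsg.Agent.Lib.TwoGen.Count
import Cfsg.Agent.S0144

/-!
# All two generated subgroups solvable implies solvable

The degree bounds and the number of triples with product one exclude a minimal counterexample.
-/

set_option autoImplicit false
set_option linter.style.haveILetI false
set_option linter.unusedSectionVars false

namespace Cfsg.Lib.TwoGen

open Subgroup Cfsg.Lib.Char

universe u

section Counting

variable {G : Type u} [Group G] [Fintype G] [DecidableEq G] {p : ℕ} [hp : Fact p.Prime]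
variable (hM : Min G) (hE : Elem G p) (h5 : 5 ≤ p)
include hM hE h5

theorem mem_pSet {x : G} : x ∈ pSet (G := G) p ↔ x ≠ 1 ∧ PEl p x := by simp [pSet]

theorem card_pSet (P : Sylow p G) :
    (pSet (G := G) p).card * Nat.card (normalizer (P : Set G)) =
      Nat.card G * (Nat.card (P : Subgroup G) - 1) := by
  classical
  haveI := Fintype.ofFinite (Sylow p G)
  let F : Sylow p G → Finset G := fun Q =>
    (Finset.univ.filter fun x => x ∈ (Q : Subgroup G)).erase 1
  have hF : ∀ Q x, x ∈ F Q ↔ x ≠ 1 ∧ x ∈ (Q : Subgroup G) := fun Q x => by simp [F]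
  have hunion : pSet (G := G) p = Finset.univ.biUnion F := by
    ext x
    simp only [mem_pSet hM hE h5, Finset.mem_biUnion, Finset.mem_univ, true_and, hF]
    exact ⟨fun ⟨h1, h2⟩ => h2.exists_sylow.imp fun Q hQ => ⟨h1, hQ⟩,
      fun ⟨Q, h1, h2⟩ => ⟨h1, pEl_of_mem Q.2 h2⟩⟩
  have hdisj : ((Finset.univ : Finset (Sylow p G)) : Set (Sylow p G)).PairwiseDisjoint F := by
    intro Q _ Q' _ hne
    refine Finset.disjoint_left.2 fun x hx hx' => hne ?_
    rw [hF] at hx hx'
    exact ((centralizer_facts hM hE h5 Q hx.2 hx.1).2.2 Q' hx'.2).symm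
  have hcard : ∀ Q : Sylow p G, (F Q).card = Nat.card (P : Subgroup G) - 1 := fun Q => by
    rw [Finset.card_erase_of_mem (Finset.mem_filter.2 ⟨Finset.mem_univ _, one_mem _⟩),
      ← Fintype.card_subtype, ← Nat.card_eq_fintype_card]
    have h1 := Q.card_eq_multiplicity
    have h2 := P.card_eq_multiplicity
    exact congrArg (· - 1) (h1.trans h2.symm)
  rw [hunion, Finset.card_biUnion hdisj, Finset.sum_congr rfl fun Q _ => hcard Q, Finset.sum_const,
    smul_eq_mul, Finset.card_univ, ← Nat.card_eq_fintype_card, P.card_eq_index_normalizer,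
    mul_right_comm, index_mul_card]

/-- Most products are `p`-elements. -/
theorem tripleCount_ge :
    (p - 2) * (pSet (G := G) p).card ^ 2 ≤ (p - 1) * tripleCount (pSet (G := G) p) := by
  classical
  set D := pSet (G := G) p with hD
  have hmem : ∀ x, x ∈ D ↔ x ≠ 1 ∧ PEl p x := fun x => mem_pSet hM hE h5
  set I := Finset.Icc 1 (p - 1) with hI
  -- good exponents for every pair
  have hgood : ∀ t ∈ D ×ˢ D, p - 2 ≤ (I.filter fun m => t.1 * t.2 ^ m ∈ D).card := by
    intro t ht
    obtain ⟨ha, hb⟩ := Finset.mem_product.1 ht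
    rw [hmem] at ha hb
    have h1 : (I.filter fun m => ¬ t.1 * t.2 ^ m ∈ D).card ≤ 1 := by
      rw [Finset.card_le_one]
      intro m hm m' hm'
      simp only [Finset.mem_filter, hI, Finset.mem_Icc, hmem] at hm hm'
      exact exceptions_le_one hM hE h5 ha hb (by omega) (by omega) hm.2 hm'.2
    have h2 := Finset.card_filter_add_card_filter_not (s := I) fun m => t.1 * t.2 ^ m ∈ D
    have h3 : I.card = p - 1 := by simp [hI]
    omega
  -- each exponent gives the same number of pairs as triples
  have hexp : ∀ m ∈ I, ((D ×ˢ D).filter fun t => t.1 * t.2 ^ m ∈ D).card ≤ tripleCount D := by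
    intro m hm
    rw [hI, Finset.mem_Icc] at hm
    refine Finset.card_le_card_of_injOn (fun t => (t.1, t.2 ^ m, (t.1 * t.2 ^ m)⁻¹)) ?_ ?_
    · intro t ht
      obtain ⟨ht', hab⟩ := Finset.mem_filter.1 ht
      obtain ⟨ha, hb⟩ := Finset.mem_product.1 ht'
      rw [hmem] at hb hab
      refine Finset.mem_coe.2 (Finset.mem_filter.2 ⟨Finset.mem_product.2 ⟨ha, Finset.mem_product.2
        ⟨(hmem _).2 ⟨fun h => ?_, hb.2.pow m⟩, (hmem _).2 ⟨inv_ne_one.2 hab.1, hab.2.inv⟩⟩⟩, by simp⟩)
      have hord : orderOf t.2 = p := orderOf_eq_prime (hE.pow_eq_one hb.2) hb.1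
      have := Nat.le_of_dvd (by omega) (hord ▸ orderOf_dvd_of_pow_eq_one h)
      omega
    · intro t ht t' ht' heq
      simp only [Prod.mk.injEq] at heq
      have hb := (hmem _).1 (Finset.mem_product.1 (Finset.mem_filter.1 ht).1).2
      have hb' := (hmem _).1 (Finset.mem_product.1 (Finset.mem_filter.1 ht').1).2
      have hco : ∀ b : G, b ≠ 1 → PEl p b → (orderOf b).Coprime m := fun b h1 h2 => by
        rw [orderOf_eq_prime (hE.pow_eq_one h2) h1]
        exact hp.out.coprime_iff_not_dvd.2 fun h => by have := Nat.le_of_dvd (by omega) h; omega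
      obtain ⟨k, hk⟩ := exists_pow_eq_self_of_coprime (hco _ hb.1 hb.2).symm
      obtain ⟨l, hl⟩ := exists_pow_eq_self_of_coprime (hco _ hb'.1 hb'.2).symm
      have hpk : ∀ b : G, PEl p b → ∀ i j : ℕ, i % p = j % p → b ^ i = b ^ j := fun b h i j hij => by
        rw [← Nat.mod_add_div i p, ← Nat.mod_add_div j p, pow_add, pow_add, pow_mul, pow_mul,
          hE.pow_eq_one h, one_pow, one_pow, hij]
      have hkl : (t.2 ^ m) ^ l = t.2 := by
        have hzero : (m * k) % p = 1 % p := by
          rw [← pow_mul] at hk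
          have := pow_eq_pow_iff_modEq.1 (hk.trans (pow_one t.2).symm)
          rwa [orderOf_eq_prime (hE.pow_eq_one hb.2) hb.1] at this
        have hlp : (m * l) % p = 1 % p := by
          rw [← pow_mul] at hl
          have := pow_eq_pow_iff_modEq.1 (hl.trans (pow_one t'.2).symm)
          rwa [orderOf_eq_prime (hE.pow_eq_one hb'.2) hb'.1] at this
        rw [← pow_mul]
        exact (hpk _ hb.2 _ _ hlp).trans (pow_one _)
      exact Prod.ext heq.1 (by rw [← hkl, heq.2.1, hl])
  calc (p - 2) * D.card ^ 2 = ∑ t ∈ D ×ˢ D, (p - 2) := by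
        rw [Finset.sum_const, Finset.card_product, smul_eq_mul]; ring
    _ ≤ ∑ t ∈ D ×ˢ D, (I.filter fun m => t.1 * t.2 ^ m ∈ D).card := Finset.sum_le_sum hgood
    _ = ∑ m ∈ I, ((D ×ˢ D).filter fun t => t.1 * t.2 ^ m ∈ D).card := by
        simp only [Finset.card_filter]
        exact Finset.sum_comm
    _ ≤ ∑ _m ∈ I, tripleCount D := Finset.sum_le_sum hexp
    _ = (p - 1) * tripleCount D := by simp [hI]

theorem charKer_eq_bot {χ : G → ℂ} (hχ : Cfsg.IsIrrCharacter G χ) (hne : χ ≠ fun _ => 1) :
    charKer hχ.isCharacter = ⊥ := by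
  haveI := hM.simple
  refine (IsSimpleGroup.eq_bot_or_eq_top_of_normal _ (charKer_normal _)).resolve_right fun h => hne ?_
  obtain ⟨n, -, hn⟩ := hχ.exists_degree
  have hc : ∀ g, χ g = (n : ℂ) := fun g => by
    rw [← hn]; exact (mem_charKer _).1 (h ▸ mem_top g)
  have h1 := classInner_irr_self hχ
  simp only [Cfsg.classInner, hc, map_natCast, Finset.sum_const, Finset.card_univ, nsmul_eq_mul,
    ← Nat.card_eq_fintype_card] at h1
  rw [inv_mul_cancel_left₀ card_cast_ne_zero] at h1
  have h2 : n * n = 1 := by exact_mod_cast h1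
  have h3 : n = 1 := Nat.eq_one_of_mul_eq_one_right h2
  funext g
  rw [hc, h3, Nat.cast_one]

set_option maxHeartbeats 2000000 in
/-- The arithmetic contradiction. -/
theorem false_of_elem (P : Sylow p G) (hP : (P : Subgroup G) ≠ ⊥) : False := by
  classical
  set D := pSet (G := G) p with hDdef
  set N := normalizer (P : Set G) with hN
  set w := (P : Subgroup G).relIndex N with hw
  set q := Nat.card (P : Subgroup G) with hq
  have hqw : q * w = Nat.card N := by
    rw [hq, hw]
    have := relIndex_mul_relIndex ⊥ (P : Subgroup G) N bot_le Subgroup.le_normalizer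
    rwa [relIndex_bot_left, relIndex_bot_left] at this
  have hDcard := card_pSet hM hE h5 P
  have hT := tripleCount_ge hM hE h5
  have hA := card_sub_one_mul_le hM hE h5 P
  have hB := two_mul_card_le hM hE h5 P hP
  obtain ⟨k, hk⟩ := IsPGroup.iff_card.1 P.2
  have hk0 : k ≠ 0 := fun h => hP (eq_bot_of_card_eq _ (by rw [hk, h, pow_zero]))
  rw [← hq] at hA hB hk hDcard
  rw [← hN] at hA hB hDcard
  rw [← hqw] at hA hB hDcard
  have hqp : p ≤ q := hk ▸ Nat.le_self_pow hk0 p
  have hw2 : 2 ≤ w := Nat.le_of_mul_le_mul_left (by rw [mul_comm q 2]; exact hB) (by omega)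
  have hqw' : q - 1 ≤ (p - 1) * w := Nat.le_of_mul_le_mul_right
    (by rw [mul_assoc, mul_comm w q]; exact hA) (show 0 < q by omega)
  have hnorm : ∀ x ∈ D, ∀ g : G, g * x * g⁻¹ ∈ D := fun x hx g => by
    rw [hDdef, mem_pSet hM hE h5] at hx ⊢
    exact ⟨fun h => hx.1 (by simpa [mul_inv_eq_one] using h), hx.2.conj g⟩
  -- real numbers
  set g' : ℝ := ((Nat.card G : ℕ) : ℝ) with hg'
  set d : ℝ := (D.card : ℝ) with hd
  set T : ℝ := (tripleCount D : ℝ) with hTdef
  have hgpos : 0 < g' := by rw [hg']; exact_mod_cast Nat.card_pos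
  have hwR : (2 : ℝ) ≤ w := by exact_mod_cast hw2
  have hqR : (5 : ℝ) ≤ q := by exact_mod_cast h5.trans hqp
  have hdq : d * (q * w) = g' * (q - 1) := by
    have : ((D.card * (q * w) : ℕ) : ℝ) = ((Nat.card G * (q - 1) : ℕ) : ℝ) := by rw [hDcard]
    push_cast [Nat.cast_sub (show 1 ≤ q by omega)] at this
    exact this
  set δ : ℝ := d / g' with hδ
  have hdδ : d = δ * g' := by rw [hδ]; field_simp
  have hδval : δ * w * q = q - 1 := by
    rw [hδ]; field_simp; linarith [hdq]
  have hδpos : 0 < δ := by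
    have : 0 < δ * (w * q) := by rw [← mul_assoc, hδval]; linarith
    exact (pos_iff_pos_of_mul_pos this).2 (by positivity)
  have hδw : δ * w ≤ 1 := by
    by_contra h
    push Not at h
    nlinarith
  have hpR : (5 : ℝ) ≤ p := by exact_mod_cast h5
  set A : ℝ := ((p : ℝ) - 2) / (p - 1) with hA'
  have hTA : A * d ^ 2 ≤ T := by
    have h1 : (((p - 2) * D.card ^ 2 : ℕ) : ℝ) ≤ (((p - 1) * tripleCount D : ℕ) : ℝ) := by
      exact_mod_cast hT
    push_cast [Nat.cast_sub (show 2 ≤ p by omega), Nat.cast_sub (show 1 ≤ p by omega)] at h1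
    rw [hA', div_mul_eq_mul_div, div_le_iff₀ (by linarith), mul_comm T]
    exact h1
  have hA34 : 3 / 4 ≤ A := by rw [hA', le_div_iff₀ (by linarith)]; linarith
  clear_value A δ g' d T
  -- the master inequality
  have master : ∀ m : ℕ, 0 < m →
      (∀ χ : G → ℂ, Cfsg.IsIrrCharacter G χ → (χ ≠ fun _ => 1) → ∃ n : ℕ, χ 1 = n ∧ m ≤ n) →
      δ ≤ A → δ * (A - δ) ^ 2 * (m : ℝ) ^ 2 ≤ 1 := by
    intro m hm hdeg hδA
    have h0 : d ^ 2 * g' * (A - δ) ≤ g' * T - d ^ 3 := by
      have h1 : d ^ 2 * g' * (A - δ) = g' * (A * d ^ 2) - d ^ 2 * (δ * g') := by ring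
      rw [h1, ← hdδ]
      have h2 := mul_le_mul_of_nonneg_left hTA hgpos.le
      have h3 : d ^ 3 = d ^ 2 * d := by ring
      linarith
    have hpos : d ^ 3 ≤ g' * T := by
      have : 0 ≤ d ^ 2 * g' * (A - δ) := by
        have : 0 ≤ A - δ := by linarith
        positivity
      linarith
    have hb := triple_bound D hnorm hm hdeg (by rw [← hd, ← hg', ← hTdef]; exact hpos)
    rw [← hg', ← hd, ← hTdef] at hb
    have h2 : (d ^ 2 * g' * (A - δ)) ^ 2 * (m : ℝ) ^ 2 ≤ (g' * d) ^ 3 := by
      refine le_trans ?_ hb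
      refine mul_le_mul_of_nonneg_right (pow_le_pow_left₀ ?_ h0 2) (by positivity)
      have : 0 ≤ A - δ := by linarith
      positivity
    rw [hdδ] at h2
    have h3 : (δ * g') ^ 3 * g' ^ 3 * (δ * (A - δ) ^ 2 * (m : ℝ) ^ 2) ≤ (δ * g') ^ 3 * g' ^ 3 * 1 := by
      calc (δ * g') ^ 3 * g' ^ 3 * (δ * (A - δ) ^ 2 * (m : ℝ) ^ 2)
          = ((δ * g') ^ 2 * g' * (A - δ)) ^ 2 * (m : ℝ) ^ 2 := by ring
        _ ≤ (g' * (δ * g')) ^ 3 := h2
        _ = _ := by ring
    exact le_of_mul_le_mul_left h3 (by positivity)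
  have hfaith := fun χ hχ hne => charKer_eq_bot hM hE h5 (χ := χ) hχ hne
  by_cases hw6 : 6 ≤ w
  · have hw6R : (6 : ℝ) ≤ w := by exact_mod_cast hw6
    have hδ6 : δ ≤ 1 / 6 := by
      have := mul_le_mul_of_nonneg_left hw6R hδpos.le
      linarith
    have hm := master w (by omega)
      (fun χ hχ hne => index_le_degree hM hE h5 P hP hχ (hfaith χ hχ hne)) (by linarith)
    have h1 : 4 / 5 ≤ δ * w := by
      by_contra h
      push Not at h
      have := mul_lt_mul_of_pos_right h (show (0 : ℝ) < q by linarith)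
      linarith
    have h2 : 24 / 5 ≤ δ * w * w := by
      calc (24 : ℝ) / 5 = 4 / 5 * 6 := by norm_num
        _ ≤ _ := mul_le_mul h1 hw6R (by norm_num) (by positivity)
    have h3 : (7 / 12) ^ 2 ≤ (A - δ) ^ 2 := pow_le_pow_left₀ (by norm_num) (by linarith) 2
    have h4 : 24 / 5 * (7 / 12) ^ 2 ≤ δ * w * w * (A - δ) ^ 2 :=
      mul_le_mul h2 h3 (by norm_num) (by positivity)
    have h5' : δ * (A - δ) ^ 2 * (w : ℝ) ^ 2 = δ * w * w * (A - δ) ^ 2 := by ring
    norm_num at h4
    linarith
  · have hqp' : q = p := by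
      by_contra hne
      have h2k : 2 ≤ k := by
        rcases k with _ | _ | k
        · exact absurd rfl hk0
        · exact absurd (by simpa using hk) hne
        · omega
      have h1 : p ^ 2 ≤ q := hk ▸ Nat.pow_le_pow_right (by omega) h2k
      have h2 : (p - 1) * w ≤ (p - 1) * 5 := Nat.mul_le_mul le_rfl (by omega)
      have h3 : 5 * p ≤ p ^ 2 := by rw [sq]; exact Nat.mul_le_mul h5 le_rfl
      omega
    have hδA : δ ≤ A := by
      have : δ * 2 ≤ 1 := le_trans (mul_le_mul_of_nonneg_left hwR hδpos.le) hδw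
      linarith
    have hm := master p (by omega)
      (fun χ hχ hne => prime_le_degree hM hE h5 P hP hχ (hfaith χ hχ hne)) hδA
    rw [hqp'] at hδval
    by_cases hp5 : p = 5
    · subst hp5
      have hA5 : A = 3 / 4 := by rw [hA']; norm_num
      subst hA5
      interval_cases w <;> norm_num at hδval hm ⊢
      · obtain rfl : δ = 2 / 5 := by linarith
        norm_num at hm
      · obtain rfl : δ = 4 / 15 := by linarith
        norm_num at hm
      · obtain rfl : δ = 1 / 5 := by linarith
        norm_num at hm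
      · obtain rfl : δ = 4 / 25 := by linarith
        norm_num at hm
    · have h7 : 7 ≤ p := by
        rcases Nat.lt_or_ge p 7 with h | h
        · have hp6 : p = 6 := by omega
          exact absurd (hp6 ▸ hp.out : Nat.Prime 6) (by norm_num)
        · exact h
      have hp7 : (7 : ℝ) ≤ p := by exact_mod_cast h7
      have hA56 : 5 / 6 ≤ A := by rw [hA', le_div_iff₀ (by linarith)]; linarith
      have hw5 : (w : ℝ) ≤ 5 := by exact_mod_cast (show w ≤ 5 by omega)
      -- `δ p² = p (p-1) / w`
      have hprod : δ * (p : ℝ) ^ 2 * w = p * (p - 1) := by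
        calc δ * (p : ℝ) ^ 2 * w = p * (δ * w * p) := by ring
          _ = _ := by rw [hδval]
      by_cases hw3 : 3 ≤ w
      · have hw3R : (3 : ℝ) ≤ w := by exact_mod_cast hw3
        have hδ3 : δ ≤ 1 / 3 := by
          have := mul_le_mul_of_nonneg_left hw3R hδpos.le
          linarith
        have h1 : 42 / 5 ≤ δ * (p : ℝ) ^ 2 := by
          have e1 : (42 : ℝ) ≤ p * (p - 1) :=
            le_trans (by norm_num : (42 : ℝ) ≤ 7 * 6) (mul_le_mul hp7 (by linarith) (by norm_num) (by linarith))
          have e2 := mul_le_mul_of_nonneg_left hw5 (show 0 ≤ δ * (p : ℝ) ^ 2 by positivity)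
          linarith
        have h3 : (1 / 2) ^ 2 ≤ (A - δ) ^ 2 := pow_le_pow_left₀ (by norm_num) (by linarith) 2
        have h4 : 42 / 5 * (1 / 2) ^ 2 ≤ δ * (p : ℝ) ^ 2 * (A - δ) ^ 2 :=
          mul_le_mul h1 h3 (by norm_num) (by positivity)
        have h5' : δ * (A - δ) ^ 2 * (p : ℝ) ^ 2 = δ * (p : ℝ) ^ 2 * (A - δ) ^ 2 := by ring
        norm_num at h4
        linarith
      · have hw2' : (w : ℝ) = 2 := by exact_mod_cast (show w = 2 by omega)
        rw [hw2'] at hprod hδw
        have h1 : 21 ≤ δ * (p : ℝ) ^ 2 := by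
          have e1 : (42 : ℝ) ≤ p * (p - 1) :=
            le_trans (by norm_num : (42 : ℝ) ≤ 7 * 6) (mul_le_mul hp7 (by linarith) (by norm_num) (by linarith))
          linarith
        have h3 : (1 / 3) ^ 2 ≤ (A - δ) ^ 2 := pow_le_pow_left₀ (by norm_num) (by linarith) 2
        have h4 : 21 * (1 / 3) ^ 2 ≤ δ * (p : ℝ) ^ 2 * (A - δ) ^ 2 :=
          mul_le_mul h1 h3 (by norm_num) (by positivity)
        have h5' : δ * (A - δ) ^ 2 * (p : ℝ) ^ 2 = δ * (p : ℝ) ^ 2 * (A - δ) ^ 2 := by ring
        norm_num at h4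
        linarith

end Counting

/-- A minimal counterexample does not exist. -/
theorem not_min {G : Type u} [Group G] [Finite G] (hM : Min G) : False := by
  classical
  have hcard : 1 < Nat.card G := by
    by_contra h
    have : Nat.card G = 1 := by have := Nat.card_pos (α := G); omega
    haveI : Subsingleton G := (Nat.card_eq_one_iff_unique.1 this).1
    exact hM.nonsol (Group.isSolvable_of_comm fun _ _ => Subsingleton.elim _ _)
  obtain ⟨p, hp, hpd, h5⟩ : ∃ p : ℕ, p.Prime ∧ p ∣ Nat.card G ∧ 5 ≤ p := by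
    by_contra hall
    push Not at hall
    refine hM.nonsol (Cfsg.Agent.S0144.result 2 3 ((Nat.card G).factorization 2)
      ((Nat.card G).factorization 3) Nat.prime_two Nat.prime_three ?_)
    have hsub : (Nat.card G).primeFactors ⊆ {2, 3} := fun r hr => by
      obtain ⟨hr1, hr2, -⟩ := Nat.mem_primeFactors.1 hr
      have := hall r hr1 hr2
      have := hr1.two_le
      have : r ≠ 4 := fun h => by subst h; norm_num at hr1
      simp only [Finset.mem_insert, Finset.mem_singleton]
      omega
    conv_lhs => rw [← Nat.prod_factorization_pow_eq_self (show Nat.card G ≠ 0 by omega)]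
    rw [Finsupp.prod_of_support_subset _ hsub _ (fun _ _ => pow_zero _),
      Finset.prod_pair (by norm_num)]
  haveI : Fact p.Prime := ⟨hp⟩
  haveI := Fintype.ofFinite G
  obtain ⟨P⟩ : Nonempty (Sylow p G) := inferInstance
  exact false_of_elem hM (hM.elem h5) h5 P (P.ne_bot_of_dvd_card hpd)

/-- A finite group all of whose two generated subgroups are solvable is solvable. -/
theorem isSolvable_of_pair {G : Type u} [Group G] [Finite G]
    (h : ∀ a b : G, Group.IsSolvable (closure ({a, b} : Set G))) : Group.IsSolvable G := by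
  induction hn : Nat.card G using Nat.strong_induction_on generalizing G with
  | _ n ih =>
  subst hn
  by_contra hns
  have hsub : ∀ H : Subgroup G, H ≠ ⊤ → Group.IsSolvable H := by
    intro H hH
    refine ih (Nat.card H) ?_ (G := H) (fun a b => ?_) rfl
    · exact lt_of_le_of_ne (card_le_card_group H) fun he => hH ((card_eq_iff_eq_top H).1 he)
    · haveI := h a b
      have he : (closure ({a, b} : Set H)).map H.subtype = closure ({(a : G), (b : G)} : Set G) := by
        rw [MonoidHom.map_closure, Set.image_pair]; rfl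
      let e := ((closure ({a, b} : Set H)).equivMapOfInjective H.subtype H.subtype_injective).trans
        (MulEquiv.subgroupCongr he)
      exact Group.isSolvable_of_isSolvable_injective (f := e.toMonoidHom) e.injective
  haveI : Nontrivial G := by
    by_contra hnt
    rw [not_nontrivial_iff_subsingleton] at hnt
    exact hns (Group.isSolvable_of_comm fun _ _ => Subsingleton.elim _ _)
  have hsimple : IsSimpleGroup G := by
    refine ⟨fun N hN => ?_⟩
    by_contra hcon
    push Not at hcon
    haveI := hsub N hcon.2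
    haveI : Group.IsSolvable (G ⧸ N) := by
      refine ih (Nat.card (G ⧸ N)) ?_ (G := G ⧸ N) (fun a b => ?_) rfl
      · rw [Subgroup.card_eq_card_quotient_mul_card_subgroup N]
        exact lt_mul_of_one_lt_right Nat.card_pos (Finite.one_lt_card_iff_nontrivial.2
          ((nontrivial_iff_ne_bot N).2 hcon.1))
      · obtain ⟨a', rfl⟩ := QuotientGroup.mk_surjective a
        obtain ⟨b', rfl⟩ := QuotientGroup.mk_surjective b
        haveI := h a' b'
        let f := (QuotientGroup.mk' N).domRestrict (closure ({a', b'} : Set G))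
        have hf : f.range = closure ({(a' : G ⧸ N), (b' : G ⧸ N)} : Set (G ⧸ N)) := by
          rw [MonoidHom.domRestrict_range, MonoidHom.map_closure, Set.image_pair]
          rfl
        exact Group.isSolvable_of_surjective (f := (MulEquiv.subgroupCongr hf).toMonoidHom.comp f.rangeRestrict)
          ((MulEquiv.subgroupCongr hf).surjective.comp f.rangeRestrict_surjective)
    exact hns (Group.isSolvable_of_ker_le_range N.subtype (QuotientGroup.mk' N) (by simp))
  exact not_min ⟨hsimple, hns, h, hsub⟩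

end Cfsg.Lib.TwoGen
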