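import Cfsg.Agent.Lib.TwoGen.Main
import Cfsg.Agent.S0205

/-!
# Solubilizers

If for every `x` the elements generating a solvable subgroup with `x` form a subgroup, the group is
solvable: in a minimal counterexample the solubilizer of an involution contains all involutions.
-/

set_option autoImplicit false
set_option linter.style.haveILetI false

namespace Cfsg.Lib.TwoGen

open Subgroup

universe u

variable {G : Type u} [Group G] [Finite G]

/-- Two involutions generate a solvable group. -/
theorem isSolvable_closure_pair_involutions {t s : G} (ht : t * t = 1) (hs : s * s = 1) :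
    Group.IsSolvable (closure ({t, s} : Set G)) := by
  set X := closure ({t, s} : Set G) with hX
  have htX : t ∈ X := subset_closure (Set.mem_insert _ _)
  have hsX : s ∈ X := subset_closure (Set.mem_insert_of_mem _ rfl)
  set T : X := ⟨t, htX⟩ with hT
  set S : X := ⟨s, hsX⟩ with hS
  have hTT : T * T = 1 := Subtype.ext ht
  have hSS : S * S = 1 := Subtype.ext hs
  have hTi : T⁻¹ = T := inv_eq_of_mul_eq_one_right hTT
  have hSi : S⁻¹ = S := inv_eq_of_mul_eq_one_right hSS
  set C := zpowers (T * S) with hC
  have hgen : closure ({T, S} : Set X) = ⊤ := by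
    apply map_injective X.subtype_injective
    rw [MonoidHom.map_closure, Set.image_pair, ← MonoidHom.range_eq_map, range_subtype]
    exact hX.symm
  have hn : C.Normal := by
    rw [← normalizer_eq_top_iff, eq_top_iff, ← hgen, closure_le]
    intro x hx
    have hconj : x * (T * S) * x⁻¹ = (T * S)⁻¹ := by
      rcases hx with rfl | rfl
      · rw [← mul_assoc, hTT, one_mul, mul_inv_rev, hTi, hSi]
      · rw [mul_assoc, mul_assoc, hSi, hSS, mul_one, mul_inv_rev, hTi, hSi]
    refine mem_normalizer_fintype ?_
    rintro _ ⟨k, rfl⟩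
    refine ⟨-k, ?_⟩
    show (T * S) ^ (-k) = x * (T * S) ^ k * x⁻¹
    rw [← conj_zpow, hconj, inv_zpow, zpow_neg]
  have hcyc : ∀ q : X ⧸ C, q ∈ zpowers (T : X ⧸ C) := by
    intro q
    obtain ⟨x, rfl⟩ := QuotientGroup.mk_surjective q
    have hx : x ∈ closure ({T, S} : Set X) := hgen ▸ mem_top x
    induction hx using closure_induction with
    | mem y hy =>
      rcases hy with rfl | rfl
      · exact mem_zpowers _
      · have h1 : ((T * S : X) : X ⧸ C) = 1 := (QuotientGroup.eq_one_iff _).2 (mem_zpowers _)
        rw [QuotientGroup.mk_mul, mul_eq_one_iff_inv_eq] at h1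
        exact h1 ▸ inv_mem (mem_zpowers _)
    | one => exact one_mem _
    | mul a b _ _ h1 h2 => rw [QuotientGroup.mk_mul]; exact mul_mem h1 h2
    | inv a _ h => rw [QuotientGroup.mk_inv]; exact inv_mem h
  haveI : Group.IsSolvable (X ⧸ C) := Group.isSolvable_of_comm fun a b => by
    obtain ⟨i, rfl⟩ := hcyc a
    obtain ⟨j, rfl⟩ := hcyc b
    exact (Commute.refl (T : X ⧸ C)).zpow_zpow i j
  exact Group.isSolvable_of_ker_le_range C.subtype (QuotientGroup.mk' C) (by simp)

/-- The property that every solubilizer is a subgroup. -/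
def SolSub (G : Type u) [Group G] : Prop :=
  ∀ x : G, ∃ H : Subgroup G,
    (H : Set G) = {y : G | Group.IsSolvable ↥(closure ({x, y} : Set G))}

omit [Finite G] in
theorem closure_pair_map {K : Type u} [Group K] (f : G →* K) (a b : G) :
    (closure ({a, b} : Set G)).map f = closure ({f a, f b} : Set K) := by
  rw [MonoidHom.map_closure, Set.image_pair]

omit [Finite G] in
theorem isSolvable_pair_subgroup (H : Subgroup G) (x y : H) :
    Group.IsSolvable ↥(closure ({x, y} : Set H)) ↔
      Group.IsSolvable ↥(closure ({(x : G), (y : G)} : Set G)) := by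
  have he : (closure ({x, y} : Set H)).map H.subtype = closure ({(x : G), (y : G)} : Set G) :=
    closure_pair_map H.subtype x y
  let e := ((closure ({x, y} : Set H)).equivMapOfInjective H.subtype H.subtype_injective).trans
    (MulEquiv.subgroupCongr he)
  exact ⟨fun _ => Group.isSolvable_of_surjective (f := e.toMonoidHom) e.surjective,
    fun _ => Group.isSolvable_of_surjective (f := e.symm.toMonoidHom) e.symm.surjective⟩

omit [Finite G] in
theorem isSolvable_pair_quotient (N : Subgroup G) [N.Normal] [Group.IsSolvable N] (x y : G) :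
    Group.IsSolvable ↥(closure ({(x : G ⧸ N), (y : G ⧸ N)} : Set (G ⧸ N))) ↔
      Group.IsSolvable ↥(closure ({x, y} : Set G)) := by
  set X := closure ({x, y} : Set G) with hX
  let f := (QuotientGroup.mk' N).domRestrict X
  have hf : f.range = closure ({(x : G ⧸ N), (y : G ⧸ N)} : Set (G ⧸ N)) := by
    rw [MonoidHom.domRestrict_range]
    exact closure_pair_map _ x y
  constructor
  · intro _
    haveI : Group.IsSolvable f.range :=
      Group.isSolvable_of_surjective (f := (MulEquiv.subgroupCongr hf).symm.toMonoidHom)
        (MulEquiv.subgroupCongr hf).symm.surjective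
    have hker : ∀ z : f.ker, ((z : X) : G) ∈ N := fun z => (QuotientGroup.eq_one_iff _).1 z.2
    let i : f.ker →* N := MonoidHom.mk' (fun z => ⟨_, hker z⟩) fun _ _ => rfl
    haveI : Group.IsSolvable f.ker := Group.isSolvable_of_isSolvable_injective (f := i) fun a b h =>
      Subtype.ext (Subtype.ext (congrArg (fun z : N => (z : G)) h))
    exact Group.isSolvable_of_ker_le_range f.ker.subtype f.rangeRestrict
      (by rw [MonoidHom.ker_rangeRestrict, range_subtype])
  · intro _
    exact Group.isSolvable_of_surjective (f := (MulEquiv.subgroupCongr hf).toMonoidHom.comp f.rangeRestrict)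
      ((MulEquiv.subgroupCongr hf).surjective.comp f.rangeRestrict_surjective)

/-- If all solubilizers are subgroups the group is solvable. -/
theorem isSolvable_of_solSub {G : Type u} [Group G] [Finite G] (h : SolSub G) :
    Group.IsSolvable G := by
  induction hn : Nat.card G using Nat.strong_induction_on generalizing G with
  | _ n ih =>
  subst hn
  by_contra hns
  have hsub : ∀ H : Subgroup G, H ≠ ⊤ → Group.IsSolvable H := by
    intro H hH
    refine ih (Nat.card H) ?_ (G := H) (fun x => ?_) rfl
    · exact lt_of_le_of_ne (card_le_card_group H) fun he => hH ((card_eq_iff_eq_top H).1 he)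
    · obtain ⟨K, hK⟩ := h (x : G)
      refine ⟨K.subgroupOf H, ?_⟩
      ext y
      exact (Set.ext_iff.1 hK (y : G)).trans (isSolvable_pair_subgroup H x y).symm
  haveI : Nontrivial G := by
    by_contra hnt
    rw [not_nontrivial_iff_subsingleton] at hnt
    exact hns (Group.isSolvable_of_comm fun _ _ => Subsingleton.elim _ _)
  have hsimple : IsSimpleGroup G := by
    refine ⟨fun N hN => ?_⟩
    by_contra hcon
    push Not at hcon
    haveI := hsub N hcon.2
    haveI : Group.IsSolvable (G ⧸ N) := by
      refine ih (Nat.card (G ⧸ N)) ?_ (G := G ⧸ N) (fun q => ?_) rfl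
      · rw [Subgroup.card_eq_card_quotient_mul_card_subgroup N]
        exact lt_mul_of_one_lt_right Nat.card_pos (Finite.one_lt_card_iff_nontrivial.2
          ((nontrivial_iff_ne_bot N).2 hcon.1))
      · obtain ⟨x, rfl⟩ := QuotientGroup.mk_surjective q
        obtain ⟨K, hK⟩ := h x
        refine ⟨K.map (QuotientGroup.mk' N), ?_⟩
        ext q
        constructor
        · rintro ⟨y, hy, rfl⟩
          exact (isSolvable_pair_quotient N x y).2 ((Set.ext_iff.1 hK y).1 hy)
        · intro hq
          obtain ⟨y, rfl⟩ := QuotientGroup.mk_surjective q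
          exact ⟨y, (Set.ext_iff.1 hK y).2 ((isSolvable_pair_quotient N x y).1 hq), rfl⟩
    exact hns (Group.isSolvable_of_ker_le_range N.subtype (QuotientGroup.mk' N) (by simp))
  refine hns (isSolvable_of_pair fun a b => ?_)
  have h2 : 2 ∣ Nat.card G := by
    by_contra hodd
    exact hns (Cfsg.Agent.S0205.result (Nat.odd_iff.2 (Nat.two_dvd_ne_zero.1 hodd)))
  haveI : Fact (Nat.Prime 2) := ⟨Nat.prime_two⟩
  obtain ⟨t, ht⟩ := exists_prime_orderOf_dvd_card' 2 h2
  have hinvol : ∀ s : G, orderOf s = 2 → s * s = 1 := fun s hs => by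
    rw [← sq, ← hs, pow_orderOf_eq_one]
  -- a solubilizer containing all involutions is everything
  have hall : ∀ K : Subgroup G, (∀ s : G, orderOf s = 2 → s ∈ K) → K = ⊤ := by
    intro K hK
    set C := closure {s : G | orderOf s = 2} with hC
    have hCn : C.Normal := ⟨fun n hn g => by
      have hm := mem_map_of_mem (MulAut.conj g).toMonoidHom hn
      rw [hC, MonoidHom.map_closure] at hm
      refine Subgroup.closure_mono ?_ hm
      rintro _ ⟨s, hs, rfl⟩
      exact (MulEquiv.orderOf_eq (MulAut.conj g) s).trans hs⟩
    have hCt : C = ⊤ := (hsimple.eq_bot_or_eq_top_of_normal C hCn).resolve_left fun hb => by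
      have h1 : t ∈ C := subset_closure ht
      rw [hb, mem_bot] at h1
      rw [h1, orderOf_one] at ht
      exact absurd ht (by norm_num)
    rw [eq_top_iff, ← hCt, hC, closure_le]
    exact hK
  obtain ⟨K, hK⟩ := h a
  have hKtop : K = ⊤ := by
    refine hall K fun s hs => (Set.ext_iff.1 hK s).2 ?_
    obtain ⟨L, hL⟩ := h s
    have hLtop : L = ⊤ := hall L fun r hr => (Set.ext_iff.1 hL r).2
      (isSolvable_closure_pair_involutions (hinvol s hs) (hinvol r hr))
    have h1 : Group.IsSolvable ↥(closure ({s, a} : Set G)) := (Set.ext_iff.1 hL a).1 (hLtop ▸ mem_top a)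
    show Group.IsSolvable ↥(closure ({a, s} : Set G))
    rwa [Set.pair_comm]
  exact (Set.ext_iff.1 hK b).1 (hKtop ▸ mem_top b)

end Cfsg.Lib.TwoGen
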